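import Groth.Agent.DescSec.SS

/-!
# Adding a first page to a spectral sequence starting at the second page
-/

set_option autoImplicit false

universe v w

open CategoryTheory CategoryTheory.Limits

namespace Groth.Agent.DescSec

variable {C : Type w} [Category.{v} C] [Abelian C] (K : ℕ → CochainComplex C ℕ) {Z : C} (hZ : IsZero Z)

include hZ in
lemma nonempty_row_X (p q : ℤ) :
    Nonempty ((row K q).X p ≅ (if 0 ≤ p ∧ 0 ≤ q then (K q.toNat).X p.toNat else Z)) := by
  refine ⟨?_⟩
  rcases q with q | q
  · by_cases h : 0 ≤ p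
    · rw [if_pos ⟨h, Int.natCast_nonneg q⟩]
      exact (K q).extendXIso ComplexShape.embeddingUpNat (i := p.toNat) (by simp; omega)
    · rw [if_neg (fun hh => h hh.1)]
      exact ((K q).isZero_extend_X ComplexShape.embeddingUpNat p (fun i => by simp; omega)).iso hZ
  · rw [if_neg (fun hh => absurd hh.2 (by omega))]
    exact IsZero.iso (isZero_zero C) hZ

include hZ in
lemma nonempty_row_homology (p q : ℤ) :
    Nonempty ((row K q).homology p ≅ (if 0 ≤ p ∧ 0 ≤ q then (K q.toNat).homology p.toNat else Z)) := by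
  refine ⟨?_⟩
  rcases q with q | q
  · by_cases h : 0 ≤ p
    · rw [if_pos ⟨h, Int.natCast_nonneg q⟩]
      exact (K q).extendHomologyIso ComplexShape.embeddingUpNat (j := p.toNat) (by simp; omega)
    · rw [if_neg (fun hh => h hh.1)]
      exact (((row K (Int.ofNat q)).exactAt_iff_isZero_homology p).1
        ((K q).extend_exactAt ComplexShape.embeddingUpNat p (fun j => by simp; omega))).iso hZ
  · rw [if_neg (fun hh => absurd hh.2 (by omega))]
    exact (ShortComplex.isZero_homology_of_isZero_X₂ _ (isZero_zero C)).iso hZ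

variable (E : E₂CohomologicalSpectralSequence C)

/-- The pages. -/
noncomputable def prePage (r : ℤ) : HomologicalComplex C (ComplexShape.up' (⟨r, 1 - r⟩ : ℤ × ℤ)) :=
  if h : r = 1 then h ▸ pageOne K else if h2 : 2 ≤ r then E.page r h2 else pageHigh K r

lemma prePage_one : prePage K E 1 = pageOne K := dif_pos rfl

lemma prePage_high {r : ℤ} (h : 2 ≤ r) : prePage K E r = E.page r h :=
  (dif_neg (show r ≠ 1 by omega)).trans (dif_pos h)

variable (e : ∀ pq : ℤ × ℤ, (row K pq.2).homology pq.1 ≅ (E.page 2 le_rfl).X pq)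

/-- The spectral sequence with the first page added. -/
noncomputable def prependSS : CohomologicalSpectralSequence C 1 where
  page r _ := prePage K E r
  iso r r' pq hrr' hr :=
    if h : r = 1 then by
      subst h
      obtain rfl : r' = 2 := by omega
      exact (HomologicalComplex.homologyFunctor _ _ pq).mapIso (eqToIso (prePage_one K E)) ≪≫
        pageOneIso K pq.1 pq.2 ≪≫ e pq ≪≫ eqToIso (congrArg (fun P => P.X pq) (prePage_high K E le_rfl)).symm
    else
      (HomologicalComplex.homologyFunctor _ _ pq).mapIso (eqToIso (prePage_high K E (show 2 ≤ r by omega))) ≪≫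
        E.iso r r' pq hrr' (by omega) ≪≫
        eqToIso (congrArg (fun P => P.X pq) (prePage_high K E (show 2 ≤ r' by omega))).symm

omit E e in
include hZ in
/-- A spectral sequence from the second page, given complexes computing that page. -/
theorem exists_prepend (H : ℤ → C) (E : E₂CohomologicalSpectralSequence C) (a : SpSeq.Abutment E H)
    (ha : ∀ n, a.IsFinite n)
    (hE : ∀ p q : ℤ, Nonempty ((E.page 2 le_rfl).X (p, q) ≅
      (if 0 ≤ p ∧ 0 ≤ q then (K q.toNat).homology p.toNat else Z))) :
    ∃ (E' : CohomologicalSpectralSequence C 1) (a' : SpSeq.Abutment E' H),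
      (∀ n, a'.IsFinite n) ∧ SpSeq.IsBounded E' ∧
      ∀ p q : ℤ, Nonempty ((E'.page 1 le_rfl).X (p, q) ≅
        (if 0 ≤ p ∧ 0 ≤ q then (K q.toNat).X p.toNat else Z)) := by
  let e : ∀ pq : ℤ × ℤ, (row K pq.2).homology pq.1 ≅ (E.page 2 le_rfl).X pq := fun pq =>
    (nonempty_row_homology K hZ pq.1 pq.2).some ≪≫ (hE pq.1 pq.2).some.symm
  have hX : ∀ p q : ℤ, Nonempty (((prependSS K E e).page 1 le_rfl).X (p, q) ≅
      (if 0 ≤ p ∧ 0 ≤ q then (K q.toNat).X p.toNat else Z)) := fun p q =>
    ⟨eqToIso (congrArg (fun P => P.X (p, q)) (prePage_one K E)) ≪≫ (nonempty_row_X K hZ p q).some⟩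
  refine ⟨prependSS K E e,
    { fil := a.fil
      anti := a.anti
      rk := a.rk
      stat := fun pq => ⟨(show (1 : ℤ) ≤ 2 by omega).trans (a.stat pq).1, fun r' h₀ h => by
        have hr : 2 ≤ r' := (a.stat pq).1.trans h
        have := (a.stat pq).2 r' hr h
        exact ⟨by change (prePage K E r').d _ _ = 0; rw [prePage_high K E hr]; exact this.1,
          by change (prePage K E r').d _ _ = 0; rw [prePage_high K E hr]; exact this.2⟩⟩
      β := fun pq => eqToIso (congrArg (fun P => P.X pq) (prePage_high K E (a.stat pq).1)) ≪≫ a.β pq },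
    ha, ?_, hX⟩
  intro n
  refine (Set.finite_Icc (0 : ℤ) n).subset fun p hp' => ?_
  by_contra hcon
  apply hp'
  obtain ⟨e⟩ := hX p (n - p)
  refine IsZero.of_iso ?_ e
  rw [if_neg (fun hh => hcon ⟨hh.1, by omega⟩)]
  exact hZ

end Groth.Agent.DescSec
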