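import Groth.Agent.DescSec.Prepend
import Groth.Agent.SSExist.Wrap
import Groth.Agent.SSExist.H0Derived
import Groth.Agent.SSExist.Leray
import Groth.Agent.HypAcyc.ExactCech

/-!
# The spectral sequence of a resolution
-/

set_option autoImplicit false
set_option linter.style.haveILetI false

universe u

open CategoryTheory CategoryTheory.Limits

namespace Groth.Agent.DescSec

variable {A : Type (u + 1)} [Category.{u} A] [Abelian A]

/-- The terms of an injective cochain complex are injective. -/
lemma injective_X (I : CochainComplex A ℕ) [Injective I] (n : ℕ) : Injective (I.X n) := by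
  constructor
  intro X Y g f hf
  have hij : (ComplexShape.up ℕ).Rel n (n + 1) := rfl
  let φ : HomologicalComplex.double (𝟙 X) hij ⟶ I :=
    HomologicalComplex.mkHomFromDouble hij (by omega) g (g ≫ I.d n (n + 1)) (by simp) (fun k _ => by simp)
  let j : HomologicalComplex.double (𝟙 X) hij ⟶ HomologicalComplex.double (𝟙 Y) hij :=
    HomologicalComplex.mkHomFromDouble hij (by omega) (f ≫ (HomologicalComplex.doubleXIso₀ _ hij).inv)
      (f ≫ (HomologicalComplex.doubleXIso₁ _ hij (by omega)).inv)
      (by rw [HomologicalComplex.double_d _ _ (by omega)]; simp)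
      (fun k _ => by rw [HomologicalComplex.double_d_eq_zero₀ _ _ _ _ (by omega : n + 1 ≠ n), comp_zero])
  haveI : Mono j := by
    haveI : ∀ k, Mono (j.f k) := fun k => by
      by_cases hk : k = n
      · subst hk
        simp only [j, HomologicalComplex.mkHomFromDouble_f₀]
        infer_instance
      · by_cases hk' : k = n + 1
        · subst hk'
          simp only [j, HomologicalComplex.mkHomFromDouble_f₁]
          infer_instance
        · exact ⟨fun _ _ _ => (HomologicalComplex.isZero_double_X _ hij k hk hk').eq_of_tgt _ _⟩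
    exact HomologicalComplex.mono_of_mono_f j this
  refine ⟨(HomologicalComplex.doubleXIso₀ _ hij).inv ≫ (Injective.factorThru φ j).f n, ?_⟩
  have h := HomologicalComplex.congr_hom (Injective.comp_factorThru φ j) n
  simp only [HomologicalComplex.comp_f, φ, j, HomologicalComplex.mkHomFromDouble_f₀, Category.assoc] at h
  exact (cancel_epi _).1 h

/-- Cycles of an injective complex split off. -/
lemma exists_section_toCycles (I : CochainComplex A ℕ) [Injective I] (n : ℕ) :
    ∃ x : (I.sc' n (n + 1) (n + 1 + 1)).cycles ⟶ (I.sc' n (n + 1) (n + 1 + 1)).X₁,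
      x ≫ (I.sc' n (n + 1) (n + 1 + 1)).toCycles = 𝟙 _ := by
  let S := I.sc' n (n + 1) (n + 1 + 1)
  have hij : (ComplexShape.up ℕ).Rel n (n + 1) := rfl
  let D := HomologicalComplex.double (𝟙 S.cycles) hij
  let φ : (HomologicalComplex.single A (ComplexShape.up ℕ) (n + 1)).obj S.cycles ⟶ I :=
    HomologicalComplex.mkHomFromSingle S.iCycles (fun j hj => by
      obtain rfl : n + 1 + 1 = j := hj
      exact S.iCycles_g)
  let j : (HomologicalComplex.single A (ComplexShape.up ℕ) (n + 1)).obj S.cycles ⟶ D :=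
    HomologicalComplex.mkHomFromSingle (HomologicalComplex.doubleXIso₁ (𝟙 S.cycles) hij (by omega)).inv
      (fun k hk => by
        rw [HomologicalComplex.double_d_eq_zero₀ _ _ _ _ (by omega : n + 1 ≠ n), comp_zero])
  haveI : Mono j := by
    haveI : ∀ k, Mono (j.f k) := fun k => by
      by_cases hk : k = n + 1
      · subst hk
        simp only [j, HomologicalComplex.mkHomFromSingle_f]
        infer_instance
      · exact ⟨fun _ _ _ => (HomologicalComplex.isZero_single_obj_X _ _ _ _ hk).eq_of_tgt _ _⟩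
    exact HomologicalComplex.mono_of_mono_f j this
  let ψ := Injective.factorThru φ j
  have h1 : S.iCycles =
      (HomologicalComplex.doubleXIso₁ (𝟙 S.cycles) hij (by omega)).inv ≫ ψ.f (n + 1) := by
    have := HomologicalComplex.congr_hom (Injective.comp_factorThru φ j) (n + 1)
    simp only [HomologicalComplex.comp_f, φ, j, HomologicalComplex.mkHomFromSingle_f, Category.assoc] at this
    exact ((cancel_epi _).1 this).symm
  refine ⟨(HomologicalComplex.doubleXIso₀ (𝟙 S.cycles) hij).inv ≫ ψ.f n, ?_⟩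
  rw [← cancel_mono S.iCycles, Category.assoc, ShortComplex.toCycles_i, Category.id_comp, h1]
  show ((HomologicalComplex.doubleXIso₀ (𝟙 S.cycles) hij).inv ≫ ψ.f n) ≫ I.d n (n + 1) = _
  rw [Category.assoc, ψ.comm n (n + 1), HomologicalComplex.double_d _ _ (by omega)]
  simp

/-- Left exact functors keep injective complexes acyclic in positive degrees. -/
theorem isZero_homology_map_injective {B : Type (u + 1)} [Category.{u} B] [Abelian B] (S : A ⥤ B) [S.Additive]
    [PreservesFiniteLimits S] (I : CochainComplex A ℕ) [Injective I] (n : ℕ) :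
    IsZero (((S.mapHomologicalComplex (ComplexShape.up ℕ)).obj I).homology (n + 1)) := by
  refine HomologicalComplex.ExactAt.isZero_homology ?_
  rw [HomologicalComplex.exactAt_iff' _ n (n + 1) (n + 1 + 1) (by simp) (by simp)]
  obtain ⟨x, hx⟩ := exists_section_toCycles I n
  let T := I.sc' n (n + 1) (n + 1 + 1)
  have hk : (ShortComplex.mk T.iCycles T.g T.iCycles_g).Exact :=
    ShortComplex.exact_of_f_is_kernel _ T.cyclesIsKernel
  haveI : Mono (ShortComplex.mk T.iCycles T.g T.iCycles_g).f := inferInstanceAs (Mono T.iCycles)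
  have hS := hk.map_of_mono_of_preservesKernel S inferInstance inferInstance
  haveI : Mono ((ShortComplex.mk T.iCycles T.g T.iCycles_g).map S).f := inferInstanceAs (Mono (S.map T.iCycles))
  rw [ShortComplex.exact_iff_exact_up_to_refinements]
  intro X a ha
  refine ⟨X, 𝟙 X, inferInstance, hS.lift a ha ≫ S.map x, ?_⟩
  have e : S.map x ≫ S.map T.f = S.map T.iCycles := by
    rw [← S.map_comp, ← T.toCycles_i, ← Category.assoc, hx, Category.id_comp]
  rw [Category.id_comp, Category.assoc]
  refine Eq.trans ?_ (congrArg (hS.lift a ha ≫ ·) e).symm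
  exact (hS.lift_f a ha).symm

/-- An exact functor preserving injectives commutes past derived functors. -/
lemma nonempty_rightDerived_precomp {A' : Type (u + 1)} [Category.{u} A'] [Abelian A'] [HasInjectiveResolutions A]
    [HasInjectiveResolutions A'] {B : Type (u + 1)} [Category.{u} B] [Abelian B] (E : A' ⥤ A) [E.Additive]
    [PreservesFiniteLimits E] [PreservesFiniteColimits E] (hE : ∀ I : A', Injective I → Injective (E.obj I))
    (S : A ⥤ B) [S.Additive] [PreservesFiniteLimits S] (M : A') (q : ℕ) :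
    Nonempty (((E ⋙ S).rightDerived q).obj M ≅ (S.rightDerived q).obj (E.obj M)) :=
  SSExist.nonempty_rightDerived_comp_iso E S (fun Q hQ q hq => by
    haveI := hE Q hQ
    obtain ⟨k, rfl⟩ := Nat.exists_eq_succ_of_ne_zero hq.ne'
    exact Functor.isZero_rightDerived_obj_injective_succ _ k _) M q

/-- Derived functors of a composite at an object acyclic for the first functor. -/
theorem nonempty_rightDerived_comp_of_acyclic {A' : Type (u + 1)} [Category.{u} A'] [Abelian A']
    [HasInjectiveResolutions A] [HasInjectiveResolutions A'] {B : Type (u + 1)} [Category.{u} B] [Abelian B]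
    (U : A' ⥤ A) [U.Additive] [PreservesFiniteLimits U] (hU : ∀ I : A', Injective I → Injective (U.obj I))
    (S : A ⥤ B) [S.Additive] (M : A') (hM : ∀ q, IsZero ((U.rightDerived (q + 1)).obj M)) (F : A)
    (hF : Nonempty (F ≅ U.obj M)) (n : ℕ) :
    Nonempty (((U ⋙ S).rightDerived n).obj M ≅ (S.rightDerived n).obj F) := by
  haveI := TriH.FinDim.enoughInjectives_of_hasInjectiveResolutions (A := A')
  let R := injectiveResolution M
  let J : CochainComplex A ℕ := (U.mapHomologicalComplex (ComplexShape.up ℕ)).obj R.cocomplex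
  obtain ⟨eF⟩ := hF
  obtain ⟨e0⟩ : Nonempty (J.homology 0 ≅ U.obj M) :=
    ⟨(R.isoRightDerivedObj U 0).symm ≪≫ U.rightDerivedZeroIsoSelf.app M⟩
  have hexact : ∀ q, J.ExactAt (q + 1) := fun q =>
    (HomologicalComplex.exactAt_iff_isZero_homology _ _).2 ((hM q).of_iso (R.isoRightDerivedObj U (q + 1)).symm)
  haveI hJ : ∀ k, Injective (J.X k) := fun k => hU _ (R.injective k)
  let i : F ⟶ J.X 0 := (eF ≪≫ e0.symm ≪≫ (CochainComplex.isoHomologyπ₀ J).symm).hom ≫ J.iCycles 0
  have hi : i ≫ J.d 0 1 = 0 := by simp [i]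
  let ι : (CochainComplex.single₀ A).obj F ⟶ J := (CochainComplex.fromSingle₀Equiv J F).symm ⟨i, hi⟩
  haveI : QuasiIso ι := by
    refine ⟨fun k => ?_⟩
    cases k with
    | zero =>
      rw [CochainComplex.quasiIsoAt₀_iff, ShortComplex.quasiIso_iff_of_zeros]
      rotate_left
      · simp; rfl
      · simp; rfl
      · simp; rfl
      have hι : ι.f 0 = i := CochainComplex.fromSingle₀Equiv_symm_apply_f_zero i hi
      haveI : Mono i := by
        simp only [i]
        infer_instance
      refine ⟨ShortComplex.exact_of_f_is_kernel _ ?_, ?_⟩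
      · exact IsKernel.isoKernel _ _ (J.cyclesIsKernel 0 1 (by simp))
          (eF ≪≫ e0.symm ≪≫ (CochainComplex.isoHomologyπ₀ J).symm) hι.symm
      · change Mono (ι.f 0)
        rw [hι]
        exact ‹Mono i›
    | succ k =>
      rw [quasiIsoAt_iff_exactAt' ι (k + 1) (hexact k)]
      exact CochainComplex.exactAt_succ_single_obj _ _
  let R' : InjectiveResolution F := { cocomplex := J, injective := hJ, ι := ι }
  exact ⟨R.isoRightDerivedObj (U ⋙ S) n ≪≫ (R'.isoRightDerivedObj S n).symm⟩

section Main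

/-- An exact functor commutes with derived functors. -/
lemma nonempty_rightDerived_comp_exact {A' : Type (u + 1)} [Category.{u} A'] [Abelian A'] [HasInjectiveResolutions A']
    {B' : Type (u + 1)} [Category.{u} B'] [Abelian B'] (T : A' ⥤ A) [T.Additive] (G : A ⥤ B') [G.Additive]
    [G.PreservesHomology] (M : A') (n : ℕ) :
    Nonempty (((T ⋙ G).rightDerived n).obj M ≅ G.obj ((T.rightDerived n).obj M)) :=
  let R := injectiveResolution M
  ⟨R.isoRightDerivedObj (T ⋙ G) n ≪≫
    (((T.mapHomologicalComplex (ComplexShape.up ℕ)).obj R.cocomplex).sc n).mapHomologyIso G ≪≫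
    G.mapIso (R.isoRightDerivedObj T n).symm⟩

/-- Isomorphic functors have isomorphic derived functors. -/
lemma nonempty_rightDerived_of_iso {A' : Type (u + 1)} [Category.{u} A'] [Abelian A'] [HasInjectiveResolutions A']
    {T T' : A' ⥤ A} [T.Additive] [T'.Additive] (e : T ≅ T') (M : A') (n : ℕ) :
    Nonempty ((T.rightDerived n).obj M ≅ (T'.rightDerived n).obj M) :=
  let R := injectiveResolution M
  ⟨R.isoRightDerivedObj T n ≪≫ (HomologicalComplex.homologyFunctor _ _ n).mapIso
    ((NatIso.mapHomologicalComplex e (ComplexShape.up ℕ)).app R.cocomplex) ≪≫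
    (R.isoRightDerivedObj T' n).symm⟩

/-- Degree zero cycles. -/
noncomputable abbrev cyc₀ (A : Type (u + 1)) [Category.{u} A] [Abelian A] : CochainComplex A ℕ ⥤ A :=
  HomologicalComplex.cyclesFunctor A (ComplexShape.up ℕ) 0

instance cyc₀_additive (A : Type (u + 1)) [Category.{u} A] [Abelian A] : (cyc₀ A).Additive where
  map_add {K L φ ψ} := by
    change HomologicalComplex.cyclesMap (φ + ψ) 0 = HomologicalComplex.cyclesMap φ 0 + HomologicalComplex.cyclesMap ψ 0
    rw [← cancel_mono (L.iCycles 0)]
    simp [Preadditive.add_comp, Preadditive.comp_add]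

/-- Cycles are homology in degree zero. -/
noncomputable def cyc₀Iso (A : Type (u + 1)) [Category.{u} A] [Abelian A] :
    SSExist.hZero (𝟭 (CochainComplex A ℕ)) ≅ cyc₀ A :=
  (NatIso.ofComponents (fun K => CochainComplex.isoHomologyπ₀ K)
    (fun φ => (HomologicalComplex.homologyπ_naturality φ 0).symm) :
      cyc₀ A ≅ SSExist.hZero (𝟭 (CochainComplex A ℕ))).symm

lemma isEffaceable_id' [HasInjectiveResolutions (CochainComplex A ℕ)] :
    SSExist.IsEffaceable (𝟭 (CochainComplex A ℕ)) where
  exact _ hS := hS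
  injective I hI n := haveI := hI; HypAcyc.isZero_homology_of_injective I n

lemma cyc₀_injective (I : CochainComplex A ℕ) [Injective I] : Injective ((cyc₀ A).obj I) := by
  constructor
  intro X Y g f hf
  haveI := hf
  change X ⟶ I.cycles 0 at g
  change ∃ h : Y ⟶ I.cycles 0, f ≫ h = g
  let φ : (CochainComplex.single₀ A).obj X ⟶ I :=
    (CochainComplex.fromSingle₀Equiv I X).symm ⟨g ≫ I.iCycles 0, by simp⟩
  let j := (CochainComplex.single₀ A).map f
  haveI : Mono j := by
    haveI : ∀ k, Mono (j.f k) := fun k => by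
      cases k with
      | zero =>
        change Mono (((CochainComplex.single₀ A).map f).f 0)
        rw [CochainComplex.single₀_map_f_zero]
        exact hf
      | succ k => exact ⟨fun _ _ _ => (HomologicalComplex.isZero_single_obj_X (ComplexShape.up ℕ) 0 X (k + 1) (by omega)).eq_of_tgt _ _⟩
    exact HomologicalComplex.mono_of_mono_f j this
  let ψ := CochainComplex.fromSingle₀Equiv I Y (Injective.factorThru φ j)
  refine ⟨I.liftCycles ψ.1 1 (by simp) ψ.2, ?_⟩
  rw [← cancel_mono (I.iCycles 0)]
  rw [Category.assoc, HomologicalComplex.liftCycles_i]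
  have h := HomologicalComplex.congr_hom (Injective.comp_factorThru φ j) 0
  simp only [HomologicalComplex.comp_f, φ, j, CochainComplex.single₀_map_f_zero,
    CochainComplex.fromSingle₀Equiv_symm_apply_f_zero] at h
  exact h

variable (S : A ⥤ AddCommGrpCat.{u}) [S.Additive] [PreservesFiniteLimits S]

/-- Left exact functors commute with degree zero cycles. -/
noncomputable def cycMapIso (K : CochainComplex A ℕ) :
    ((S.mapHomologicalComplex (ComplexShape.up ℕ)).obj K).cycles 0 ≅ S.obj (K.cycles 0) :=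
  IsLimit.conePointUniqueUpToIso
    (((S.mapHomologicalComplex (ComplexShape.up ℕ)).obj K).cyclesIsKernel 0 1 (by simp))
    ((KernelFork.isLimitMapConeEquiv _ S).1 (isLimitOfPreserves S (K.cyclesIsKernel 0 1 (by simp))))

lemma cycMapIso_hom_i (K : CochainComplex A ℕ) :
    (cycMapIso S K).hom ≫ S.map (K.iCycles 0) =
      ((S.mapHomologicalComplex (ComplexShape.up ℕ)).obj K).iCycles 0 :=
  IsLimit.conePointUniqueUpToIso_hom_comp _ _ WalkingParallelPair.zero

/-- The same, naturally. -/
noncomputable def cycMapNatIso :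
    S.mapHomologicalComplex (ComplexShape.up ℕ) ⋙ cyc₀ AddCommGrpCat.{u} ≅ cyc₀ A ⋙ S :=
  NatIso.ofComponents (cycMapIso S) fun {K L} φ => by
    haveI : Mono (S.map (L.iCycles 0)) := inferInstance
    dsimp
    apply (cancel_mono (S.map (L.iCycles 0))).1
    change (HomologicalComplex.cyclesMap _ 0 ≫ (cycMapIso S L).hom) ≫ _ =
      ((cycMapIso S K).hom ≫ S.map (HomologicalComplex.cyclesMap φ 0)) ≫ _
    rw [Category.assoc, Category.assoc, cycMapIso_hom_i]
    rw [← S.map_comp, HomologicalComplex.cyclesMap_i, S.map_comp, reassoc_of% cycMapIso_hom_i S K]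
    exact HomologicalComplex.cyclesMap_i _ 0

/-- The spectral sequence of a resolution. -/
theorem exists_resolutionSS [IsGrothendieckAbelian.{u} A] (K : CochainComplex A ℕ) (F : A)
    (h0 : Nonempty (F ≅ K.homology 0)) (hK : ∀ n, IsZero (K.homology (n + 1)))
    (H : ℕ → AddCommGrpCat.{u}) (hH : ∀ n, Nonempty (H n ≅ (S.rightDerived n).obj F))
    (P : ℕ → ℕ → AddCommGrpCat.{u}) (hP : ∀ p q, Nonempty (P p q ≅ (S.rightDerived q).obj (K.X p)))
    (O : AddCommGrpCat.{u}) (hO : IsZero O) :
    ∃ (E : CohomologicalSpectralSequence AddCommGrpCat.{u} 1)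
      (a : SpSeq.Abutment E (fun n : ℤ => if 0 ≤ n then H n.toNat else O)),
      (∀ n, a.IsFinite n) ∧ SpSeq.IsBounded E ∧
      ∀ p q : ℤ, Nonempty ((E.page 1 le_rfl).X (p, q) ≅ (if 0 ≤ p ∧ 0 ≤ q then P p.toNat q.toNat else O)) := by
  haveI : HasInjectiveResolutions A := inferInstance
  haveI : HasInjectiveResolutions (CochainComplex A ℕ) := inferInstance
  haveI := SSExist.preservesFiniteLimits_hZero _ (isEffaceable_id' (A := A))
  haveI := SSExist.preservesFiniteLimits_hZero _ HypAcyc.isEffaceable_id.{u}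
  haveI : PreservesFiniteLimits (cyc₀ A) := preservesFiniteLimits_of_natIso (cyc₀Iso A)
  haveI : PreservesFiniteLimits (cyc₀ AddCommGrpCat.{u}) := preservesFiniteLimits_of_natIso (cyc₀Iso AddCommGrpCat.{u})
  let T := S.mapHomologicalComplex (ComplexShape.up ℕ)
  have hcyc : ∀ (M : CochainComplex AddCommGrpCat.{u} ℕ) (q : ℕ),
      Nonempty (((cyc₀ AddCommGrpCat.{u}).rightDerived q).obj M ≅ M.homology q) := fun M q => by
    obtain ⟨e⟩ := nonempty_rightDerived_of_iso (cyc₀Iso AddCommGrpCat.{u}) M q
    obtain ⟨e'⟩ := SSExist.nonempty_rightDerived_hZero_iso _ HypAcyc.isEffaceable_id.{u} q M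
    exact ⟨e.symm ≪≫ e'⟩
  have hT : ∀ Q : CochainComplex A ℕ, Injective Q → ∀ q : ℕ, 0 < q →
      IsZero (((cyc₀ AddCommGrpCat.{u}).rightDerived q).obj (T.obj Q)) := fun Q hQ q hq => by
    haveI := hQ
    obtain ⟨k, rfl⟩ := Nat.exists_eq_succ_of_ne_zero hq.ne'
    exact (isZero_homology_map_injective S Q k).of_iso (hcyc _ _).some
  have hM : ∀ q, IsZero (((cyc₀ A).rightDerived (q + 1)).obj K) := fun q => by
    obtain ⟨e⟩ := nonempty_rightDerived_of_iso (cyc₀Iso A) K (q + 1)
    obtain ⟨e'⟩ := SSExist.nonempty_rightDerived_hZero_iso _ (isEffaceable_id' (A := A)) (q + 1) K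
    exact (hK q).of_iso (e.symm ≪≫ e')
  have hH' : ∀ n, Nonempty (H n ≅ ((T ⋙ cyc₀ AddCommGrpCat.{u}).rightDerived n).obj K) := fun n => by
    obtain ⟨e₁⟩ := nonempty_rightDerived_of_iso (cycMapNatIso S) K n
    obtain ⟨e₂⟩ := nonempty_rightDerived_comp_of_acyclic (cyc₀ A) (fun I hI => haveI := hI; cyc₀_injective I) S K hM F
      (h0.map fun e => e ≪≫ (CochainComplex.isoHomologyπ₀ K).symm) n
    exact ⟨(hH n).some ≪≫ e₂.symm ≪≫ e₁.symm⟩
  obtain ⟨E, a, ha, -, hE⟩ := SSExist.exists_grothendieck' T (cyc₀ AddCommGrpCat.{u}) hT K O hO H hH'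
    (fun p q => ((T.rightDerived q).obj K).homology p) (fun p q => ⟨(hcyc _ p).some.symm⟩)
  obtain ⟨E', a', ha', hb', hE'⟩ := exists_prepend (fun q => (T.rightDerived q).obj K) hO _ E a ha hE
  refine ⟨E', a', ha', hb', fun p q => ⟨(hE' p q).some ≪≫ ?_⟩⟩
  by_cases h : 0 ≤ p ∧ 0 ≤ q
  · rw [if_pos h, if_pos h]
    let ev : CochainComplex AddCommGrpCat.{u} ℕ ⥤ AddCommGrpCat.{u} :=
      HomologicalComplex.eval _ (ComplexShape.up ℕ) p.toNat
    let evA : CochainComplex A ℕ ⥤ A := HomologicalComplex.eval _ (ComplexShape.up ℕ) p.toNat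
    let e₁ := (nonempty_rightDerived_comp_exact T ev K q.toNat).some
    let e₂ := (nonempty_rightDerived_precomp evA (fun I hI => haveI := hI; injective_X I _) S K q.toNat).some
    let e₃ := (nonempty_rightDerived_of_iso (T := T ⋙ ev) (T' := evA ⋙ S) (Iso.refl _) K q.toNat).some
    exact (e₁.symm ≪≫ e₃ ≪≫ e₂ ≪≫ (hP p.toNat q.toNat).some.symm : _)
  · rw [if_neg h, if_neg h]

end Main

end Groth.Agent.DescSec
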