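import Groth.Agent.DescSec.ClosedStalk
import Mathlib.AlgebraicTopology.AlternatingFaceMapComplex
import Mathlib.Algebra.BigOperators.Fin
import Mathlib.Algebra.Homology.ShortComplex.Ab

/-!
# The resolution attached to a locally finite closed covering
-/

set_option autoImplicit false
set_option linter.style.haveILetI false
set_option backward.isDefEq.respectTransparency false

universe u

open CategoryTheory CategoryTheory.Limits Opposite TopologicalSpace Simplicial
open scoped ZeroObject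

namespace Groth.Agent.DescSec

variable {X : TopCat.{u}} {I : Type u} (U : I → Set X) (hU : ∀ i, IsClosed (U i)) (F : CohTop.Ab X)

/-- The intersection along a tuple. -/
abbrev inter {n : ℕ} (σ : Fin n → I) : Set X := ⋂ k, U (σ k)

lemma inter_subset {n m : ℕ} (φ : Fin n → Fin m) (τ : Fin m → I) : inter U τ ⊆ inter U (τ ∘ φ) :=
  fun _ hx => Set.mem_iInter.2 fun k => Set.mem_iInter.1 hx (φ k)

include hU in
lemma isClosed_inter {n : ℕ} (σ : Fin n → I) : IsClosed (inter U σ) := isClosed_iInter fun k => hU (σ k)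

/-- The cosimplicial sheaf of a closed covering. -/
noncomputable def closedCosimp : CosimplicialObject (CohTop.Ab X) where
  obj n := ∏ᶜ fun σ : Fin (n.len + 1) → I => gOn F (inter U σ)
  map {n m} φ := Pi.lift fun τ => Pi.π (fun σ : Fin (n.len + 1) → I => gOn F (inter U σ)) (τ ∘ φ.toOrderHom) ≫
    restOn F (isClosed_inter U hU _) (isClosed_inter U hU τ) (inter_subset U _ τ)
  map_id n := Pi.hom_ext _ _ fun τ => by
    haveI := epi_etaOn F (isClosed_inter U hU τ)
    rw [Pi.lift_π, Category.id_comp]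
    refine (congrArg (Pi.π (fun σ : Fin (n.len + 1) → I => gOn F (inter U σ)) τ ≫ ·)
      ((cancel_epi (etaOn F (inter U τ))).1 ((etaOn_restOn F _ _ _).trans (Category.comp_id _).symm))).trans
      (Category.comp_id _)
  map_comp {n m k} φ ψ := Pi.hom_ext _ _ fun τ => by
    haveI := epi_etaOn F (isClosed_inter U hU (τ ∘ (φ ≫ ψ).toOrderHom))
    rw [Pi.lift_π, Category.assoc, Pi.lift_π, Pi.lift_π_assoc, Category.assoc]
    refine congrArg (Pi.π (fun σ : Fin (n.len + 1) → I => gOn F (inter U σ)) (τ ∘ (φ ≫ ψ).toOrderHom) ≫ ·)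
      ((cancel_epi (etaOn F (inter U (τ ∘ (φ ≫ ψ).toOrderHom)))).1 ?_)
    rw [etaOn_restOn]
    exact ((etaOn_restOn_assoc F (isClosed_inter U hU _) (isClosed_inter U hU _)
      (inter_subset U φ.toOrderHom (τ ∘ ψ.toOrderHom)) _).trans (etaOn_restOn F _ _ _)).symm

/-- The augmentation. -/
noncomputable def augClosed : F ⟶ (closedCosimp U hU F).obj ⦋0⦌ :=
  Pi.lift fun σ : Fin ((⦋0⦌ : SimplexCategory).len + 1) → I => etaOn F (inter U σ)

/-- The resolution. -/
noncomputable abbrev closedCx : CochainComplex (CohTop.Ab X) ℕ :=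
  AlgebraicTopology.AlternatingCofaceMapComplex.obj (closedCosimp U hU F)

lemma closedCx_d (n : ℕ) : (closedCx U hU F).d n (n + 1) =
    ∑ i : Fin (n + 2), (-1 : ℤ) ^ (i : ℕ) • (closedCosimp U hU F).δ i :=
  CochainComplex.of_d (fun n => (closedCosimp U hU F).obj ⦋n⦌)
    (AlgebraicTopology.AlternatingCofaceMapComplex.objD (closedCosimp U hU F)) n

lemma augClosed_d : augClosed U hU F ≫ (closedCx U hU F).d 0 1 = 0 := by
  have h : ∀ i : Fin 2, augClosed U hU F ≫ (closedCosimp U hU F).δ i =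
      Pi.lift fun σ : Fin ((⦋1⦌ : SimplexCategory).len + 1) → I => etaOn F (inter U σ) := fun i =>
    Pi.hom_ext _ _ fun τ => by
      simp only [CosimplicialObject.δ, closedCosimp, Category.assoc, Pi.lift_π, augClosed]
      rw [Pi.lift_π_assoc]
      exact etaOn_restOn F _ _ _
  rw [closedCx_d, Preadditive.comp_sum, Fin.sum_univ_two]
  simp [h]

section Stalks

variable (hlf : LocallyFinite U)

include hU hlf in
lemma exists_small_nhd (x : X) : ∃ V : Opens X, x ∈ V ∧ ∀ i, x ∉ U i → ∀ y ∈ V, y ∉ U i := by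
  have hc : IsClosed (⋃ i : {i // x ∉ U i}, U i.1) :=
    (hlf.comp_injective Subtype.val_injective).isClosed_iUnion fun i => hU i.1
  exact ⟨⟨_, hc.isOpen_compl⟩, fun hm => by obtain ⟨i, hi⟩ := Set.mem_iUnion.1 hm; exact i.2 hi,
    fun i hi y hy hyi => hy (Set.mem_iUnion.2 ⟨⟨i, hi⟩, hyi⟩)⟩

include hlf in
lemma finite_tuples (x : X) (n : ℕ) : Finite {σ : Fin n → I // x ∈ inter U σ} := by
  haveI : Finite {i // x ∈ U i} := hlf.point_finite x
  exact Finite.of_injective (fun σ => (fun k => (⟨σ.1 k, Set.mem_iInter.1 σ.2 k⟩ : {i // x ∈ U i})))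
    fun a b h => Subtype.ext (funext fun k => congrArg Subtype.val (congrFun h k))

/-- The component at a tuple of a germ. -/
noncomputable def val {n : SimplexCategory} {x : X} (σ : Fin (n.len + 1) → I) (h : x ∈ inter U σ) :
    (stA x).obj ((closedCosimp U hU F).obj n) ⟶ (stA x).obj F :=
  haveI : IsIso ((stA x).map (etaOn F (inter U σ))) :=
    (ConcreteCategory.isIso_iff_bijective _).2 (bijective_stk_etaOn F _ x h)
  (stA x).map (Pi.π (fun σ : Fin (n.len + 1) → I => gOn F (inter U σ)) σ) ≫ inv ((stA x).map (etaOn F (inter U σ)))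

lemma val_eta {n : SimplexCategory} {x : X} (σ : Fin (n.len + 1) → I) (h : x ∈ inter U σ) :
    val U hU F σ h ≫ (stA x).map (etaOn F (inter U σ)) =
      (stA x).map (Pi.π (fun σ : Fin (n.len + 1) → I => gOn F (inter U σ)) σ) := by
  simp [val]

lemma map_val {n m : SimplexCategory} (φ : n ⟶ m) {x : X} (τ : Fin (m.len + 1) → I) (h : x ∈ inter U τ) :
    (stA x).map ((closedCosimp U hU F).map φ) ≫ val U hU F τ h =
      val U hU F (τ ∘ φ.toOrderHom) (inter_subset U _ τ h) := by
  haveI : IsIso ((stA x).map (etaOn F (inter U τ))) :=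
    (ConcreteCategory.isIso_iff_bijective _).2 (bijective_stk_etaOn F _ x h)
  rw [← cancel_mono ((stA x).map (etaOn F (inter U τ))), Category.assoc, val_eta, ← Functor.map_comp]
  simp only [closedCosimp, Pi.lift_π]
  rw [Functor.map_comp, ← val_eta U hU F (τ ∘ φ.toOrderHom) (inter_subset U _ τ h), Category.assoc,
    ← Functor.map_comp, etaOn_restOn]

lemma aug_val {x : X} (σ : Fin ((⦋0⦌ : SimplexCategory).len + 1) → I) (h : x ∈ inter U σ) :
    (stA x).map (augClosed U hU F) ≫ val U hU F σ h = 𝟙 _ := by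
  haveI : IsIso ((stA x).map (etaOn F (inter U σ))) :=
    (ConcreteCategory.isIso_iff_bijective _).2 (bijective_stk_etaOn F _ x h)
  rw [← cancel_mono ((stA x).map (etaOn F (inter U σ))), Category.assoc, val_eta, ← Functor.map_comp,
    augClosed, Pi.lift_π, Category.id_comp]

/-- The component of a section of the product. -/
noncomputable abbrev comp {n : SimplexCategory} (σ : Fin (n.len + 1) → I) {V : Opens X}
    (b : ((closedCosimp U hU F).obj n).obj.obj (op V)) : (gOn F (inter U σ)).obj.obj (op V) :=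
  (Pi.π (fun σ : Fin (n.len + 1) → I => gOn F (inter U σ)) σ).hom.app (op V) b

lemma comp_ext {n : SimplexCategory} {V : Opens X} {a b : ((closedCosimp U hU F).obj n).obj.obj (op V)}
    (h : ∀ σ, comp U hU F σ a = comp U hU F σ b) : a = b := by
  let S := sheafToPresheaf (Opens.grothendieckTopology X) AddCommGrpCat.{u} ⋙ (evaluation _ _).obj (op V)
  exact Concrete.isLimit_ext _
    (isLimitOfPreserves S (limit.isLimit (Discrete.functor fun σ : Fin (n.len + 1) → I => gOn F (inter U σ))))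
    a b fun ⟨σ⟩ => h σ

lemma exists_comp {n : SimplexCategory} {V : Opens X}
    (v : ∀ σ : Fin (n.len + 1) → I, (gOn F (inter U σ)).obj.obj (op V)) :
    ∃ b : ((closedCosimp U hU F).obj n).obj.obj (op V), ∀ σ, comp U hU F σ b = v σ := by
  let S := sheafToPresheaf (Opens.grothendieckTopology X) AddCommGrpCat.{u} ⋙ (evaluation _ _).obj (op V)
  let e := PreservesProduct.iso S (fun σ : Fin (n.len + 1) → I => gOn F (inter U σ))
  let w := (Concrete.productEquiv (fun σ : Fin (n.len + 1) → I => S.obj (gOn F (inter U σ)))).symm v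
  refine ⟨e.inv w, fun σ => ?_⟩
  have h : e.inv ≫ S.map (Pi.π (fun σ : Fin (n.len + 1) → I => gOn F (inter U σ)) σ) = Pi.π _ σ := by
    rw [Iso.inv_comp_eq]
    exact (piComparison_comp_π S _ σ).symm
  exact (ConcreteCategory.congr_hom h w).trans (Concrete.productEquiv_symm_apply_π _ _ σ)

include hlf in
lemma val_ext {n : SimplexCategory} {x : X} {a b : (stA x).obj ((closedCosimp U hU F).obj n)}
    (h : ∀ σ (hσ : x ∈ inter U σ), val U hU F σ hσ a = val U hU F σ hσ b) : a = b := by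
  rw [← sub_eq_zero]
  set c := a - b with hc
  have h0 : ∀ σ (hσ : x ∈ inter U σ), (stA x).map (Pi.π (fun σ : Fin (n.len + 1) → I => gOn F (inter U σ)) σ) c = 0 := by
    intro σ hσ
    rw [← val_eta U hU F σ hσ, ConcreteCategory.comp_apply, hc]
    exact (congrArg _ ((map_sub (val U hU F σ hσ).hom a b).trans (sub_eq_zero.2 (h σ hσ)))).trans (map_zero _)
  obtain ⟨V, hV, s, hs⟩ := TopCat.Presheaf.germ_exist (F := ((closedCosimp U hU F).obj n).obj) c
  rw [← hs]
  obtain ⟨V₀, hx₀, hV₀⟩ := exists_small_nhd U hU hlf x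
  have h1 : ∀ t : {σ : Fin (n.len + 1) → I // x ∈ inter U σ}, ∃ (W : Opens X) (i : W ⟶ V),
      x ∈ W ∧ (gOn F (inter U t.1)).obj.map i.op (comp U hU F t.1 s) = 0 := by
    intro t
    have := h0 t.1 t.2
    rw [← hs] at this
    have hg : (TopCat.Presheaf.germ (gOn F (inter U t.1)).obj V x hV) (comp U hU F t.1 s) = 0 := by
      refine Eq.trans ?_ this
      exact (TopCat.Presheaf.stalkFunctor_map_germ_apply V x hV _ s).symm
    obtain ⟨W, hW, i, i', e⟩ := TopCat.Presheaf.germ_eq (gOn F (inter U t.1)).obj x hV hV (comp U hU F t.1 s) 0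
      (hg.trans (map_zero _).symm)
    exact ⟨W, i, hW, e.trans (map_zero _)⟩
  choose W i hW he using h1
  haveI := finite_tuples U hlf x (n.len + 1)
  let V' : Opens X := V₀ ⊓ V ⊓ ⟨⋂ t, (W t : Set X), isOpen_iInter_of_finite fun t => (W t).2⟩
  have hx' : x ∈ V' := ⟨⟨hx₀, hV⟩, Set.mem_iInter.2 hW⟩
  let j : V' ⟶ V := homOfLE (inf_le_left.trans inf_le_right)
  rw [← TopCat.Presheaf.germ_res_apply ((closedCosimp U hU F).obj n).obj j x hx']
  suffices h2 : ((closedCosimp U hU F).obj n).obj.map j.op s = 0 by rw [h2, map_zero]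
  refine comp_ext U hU F fun σ => ?_
  change _ = comp U hU F σ 0
  simp only [comp, map_zero]
  refine (ConcreteCategory.congr_hom ((Pi.π (fun σ : Fin (n.len + 1) → I => gOn F (inter U σ)) σ).hom.naturality j.op) s).trans ?_
  by_cases hσ : x ∈ inter U σ
  · let k : V' ⟶ W ⟨σ, hσ⟩ := homOfLE fun y hy => Set.mem_iInter.1 hy.2 ⟨σ, hσ⟩
    have hjk : j.op = (i ⟨σ, hσ⟩).op ≫ k.op := Subsingleton.elim _ _
    rw [ConcreteCategory.comp_apply, hjk, Functor.map_comp, ConcreteCategory.comp_apply]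
    exact (congrArg ((gOn F (inter U σ)).obj.map k.op) (he ⟨σ, hσ⟩)).trans (map_zero _)
  · obtain ⟨k, hk⟩ := not_forall.1 (fun hh => hσ (Set.mem_iInter.2 hh))
    haveI := subsingleton_gOn F (inter U σ) V' fun y hy hyσ => hV₀ _ hk y hy.1.1 (Set.mem_iInter.1 hyσ k)
    exact Subsingleton.elim _ _

include hlf in
lemma exists_val (n : SimplexCategory) (x : X)
    (v : ∀ σ : Fin (n.len + 1) → I, x ∈ inter U σ → (stA x).obj F) :
    ∃ e : (stA x).obj ((closedCosimp U hU F).obj n), ∀ σ (hσ : x ∈ inter U σ), val U hU F σ hσ e = v σ hσ := by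
  classical
  obtain ⟨V₀, hx₀, hV₀⟩ := exists_small_nhd U hU hlf x
  choose W hW g hg using fun t : {σ : Fin (n.len + 1) → I // x ∈ inter U σ} =>
    TopCat.Presheaf.germ_exist (F := (gOn F (inter U t.1)).obj) ((stA x).map (etaOn F (inter U t.1)) (v t.1 t.2))
  haveI := finite_tuples U hlf x (n.len + 1)
  let V' : Opens X := V₀ ⊓ ⟨⋂ t, (W t : Set X), isOpen_iInter_of_finite fun t => (W t).2⟩
  have hx' : x ∈ V' := ⟨hx₀, Set.mem_iInter.2 hW⟩
  let j : ∀ t, V' ⟶ W t := fun t => homOfLE fun y hy => Set.mem_iInter.1 hy.2 t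
  obtain ⟨b, hb⟩ := exists_comp U hU F (V := V') (n := n) fun σ =>
    if hσ : x ∈ inter U σ then (gOn F (inter U σ)).obj.map (j ⟨σ, hσ⟩).op (g ⟨σ, hσ⟩) else 0
  refine ⟨TopCat.Presheaf.germ ((closedCosimp U hU F).obj n).obj V' x hx' b, fun σ hσ => ?_⟩
  apply (bijective_stk_etaOn F (inter U σ) x hσ).1
  rw [← ConcreteCategory.comp_apply, val_eta]
  refine (TopCat.Presheaf.stalkFunctor_map_germ_apply V' x hx' _ b).trans ?_
  refine (congrArg (TopCat.Presheaf.germ (gOn F (inter U σ)).obj V' x hx') ((hb σ).trans (dif_pos hσ))).trans ?_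
  exact (TopCat.Presheaf.germ_res_apply _ _ _ _ _).trans (hg ⟨σ, hσ⟩)

lemma d_val (n : ℕ) {x : X} (τ : Fin ((⦋n + 1⦌ : SimplexCategory).len + 1) → I) (h : x ∈ inter U τ)
    (c : (stA x).obj ((closedCosimp U hU F).obj ⦋n⦌)) :
    val U hU F τ h ((stA x).map ((closedCx U hU F).d n (n + 1)) c) =
      ∑ i : Fin (n + 2), (-1 : ℤ) ^ (i : ℕ) •
        val U hU F (n := ⦋n⦌) (τ ∘ i.succAbove) (inter_subset U _ τ h) c := by
  let ev : ((closedCx U hU F).X n ⟶ (closedCx U hU F).X (n + 1)) →+ (stA x).obj F :=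
    AddMonoidHom.mk' (fun t => val U hU F τ h ((stA x).map t c)) fun t t' => by
      rw [Functor.map_add]
      exact map_add _ _ _
  refine ((congrArg ev (closedCx_d U hU F n)).trans (map_sum ev _ _)).trans (Finset.sum_congr rfl fun i _ => ?_)
  rw [map_zsmul]
  exact congrArg ((-1 : ℤ) ^ (i : ℕ) • ·) (ConcreteCategory.congr_hom (map_val U hU F (SimplexCategory.δ i) τ h) c)

variable (hcov : ⋃ i, U i = Set.univ)

include hcov in
lemma exists_mem (x : X) : ∃ i, x ∈ U i := Set.mem_iUnion.1 (hcov ▸ Set.mem_univ x)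

lemma cons_mem {n : ℕ} {x : X} {i₀ : I} (hi : x ∈ U i₀) {τ : Fin n → I} (h : x ∈ inter U τ) :
    x ∈ inter U (Fin.cons i₀ τ : Fin (n + 1) → I) :=
  Set.mem_iInter.2 (Fin.cases (by simpa using hi) fun k => by simpa using Set.mem_iInter.1 h k)

include hlf hcov in
lemma exact_closedCx_succ (n : ℕ) : (closedCx U hU F).ExactAt (n + 1) := by
  rw [HomologicalComplex.exactAt_iff' _ n (n + 1) (n + 1 + 1) (by simp) (by simp)]
  refine exact_of_stk fun x c hc => ?_
  obtain ⟨i₀, hi⟩ := exists_mem U hcov x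
  obtain ⟨e, he⟩ := exists_val U hU F hlf ⦋n⦌ x fun σ hσ =>
    val U hU F (n := ⦋n + 1⦌) (Fin.cons i₀ σ) (cons_mem U hi hσ) c
  refine ⟨e, val_ext U hU F hlf fun τ hτ => ?_⟩
  refine (d_val U hU F n τ hτ e).trans ?_
  simp only [he]
  have h0 := (d_val U hU F (n + 1) (Fin.cons i₀ τ) (cons_mem U hi hτ) c).symm.trans
    ((congrArg _ hc).trans (map_zero _))
  rw [Fin.sum_univ_succ] at h0
  simp only [Fin.val_zero, pow_zero, one_smul, Fin.val_succ, pow_succ, mul_neg, mul_one, neg_smul,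
    Finset.sum_neg_distrib] at h0
  have e0 : ((Fin.cons i₀ τ : Fin (n + 1 + 2) → I) ∘ Fin.succAbove 0) = τ := by
    funext k; simp
  have e1 : ∀ i : Fin (n + 2), ((Fin.cons i₀ τ : Fin (n + 1 + 2) → I) ∘ i.succ.succAbove) =
      Fin.cons i₀ (τ ∘ i.succAbove) := fun i => by
    funext k
    cases k using Fin.cases <;> simp
  simp only [e0, e1] at h0
  exact (add_neg_eq_zero.1 h0).symm

include hlf hcov in
lemma exact_augClosed : (ShortComplex.mk _ _ (augClosed_d U hU F)).Exact := by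
  refine exact_of_stk fun x c hc => ?_
  obtain ⟨i₀, hi⟩ := exists_mem U hcov x
  have hm : x ∈ inter U (fun _ : Fin ((⦋0⦌ : SimplexCategory).len + 1) => i₀) := Set.mem_iInter.2 fun _ => hi
  refine ⟨val U hU F _ hm c, val_ext U hU F hlf fun σ hσ => ?_⟩
  refine (ConcreteCategory.congr_hom (aug_val U hU F σ hσ) _).trans ?_
  let τ : Fin ((⦋1⦌ : SimplexCategory).len + 1) → I := Fin.cons i₀ σ
  have h0 := (d_val U hU F 0 τ (cons_mem U hi hσ) c).symm.trans ((congrArg _ hc).trans (map_zero _))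
  rw [Fin.sum_univ_two] at h0
  simp only [Fin.val_zero, pow_zero, one_smul, Fin.val_one, pow_one, neg_smul] at h0
  have e0 : (τ ∘ Fin.succAbove 0) = σ := by
    funext k; simp [τ]
  have e1 : (τ ∘ Fin.succAbove (1 : Fin 2)) = fun _ => i₀ := by
    funext k
    obtain rfl : k = (0 : Fin 1) := Subsingleton.elim (α := Fin 1) _ _
    rfl
  simp only [e0, e1] at h0
  exact (add_neg_eq_zero.1 h0).symm

include hlf hcov in
lemma mono_augClosed : Mono (augClosed U hU F) := by
  refine mono_of_stk _ fun x a b hab => ?_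
  obtain ⟨i₀, hi⟩ := exists_mem U hcov x
  have hm : x ∈ inter U (fun _ : Fin ((⦋0⦌ : SimplexCategory).len + 1) => i₀) := Set.mem_iInter.2 fun _ => hi
  have h := ConcreteCategory.congr_hom (aug_val U hU F _ hm)
  exact (h a).symm.trans ((congrArg (val U hU F _ hm) hab).trans (h b))

include hlf hcov in
lemma nonempty_iso_homology_zero : Nonempty (F ≅ (closedCx U hU F).homology 0) := by
  haveI := mono_augClosed U hU F hlf hcov
  exact ⟨IsLimit.conePointUniqueUpToIso (exact_augClosed U hU F hlf hcov).fIsKernel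
    ((closedCx U hU F).cyclesIsKernel 0 1 (by simp)) ≪≫ CochainComplex.isoHomologyπ₀ _⟩

end Stalks

end Groth.Agent.DescSec
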