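import Groth.Prelude.Def_SpSeq
import Mathlib.Algebra.Category.Grp.Abelian
import Mathlib.Algebra.Homology.Embedding.ExtendHomology
import Mathlib.Algebra.Homology.Opposite
import Mathlib.Algebra.Homology.SingleHomology
import Mathlib.Data.Int.Interval
import Mathlib.AlgebraicTopology.ExtraDegeneracy

/-!
# First page spectral sequences concentrated in one column from the second page on
-/

set_option autoImplicit false

universe v w u₀ v₀

open CategoryTheory CategoryTheory.Limits Opposite Simplicial

namespace Groth.Agent.DescSec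

variable {C : Type w} [Category.{v} C] [Abelian C] (K : ℕ → CochainComplex C ℕ)

/-- The rows of the first page. -/
noncomputable def row : ℤ → CochainComplex C ℤ
  | Int.ofNat q => (K q).extend ComplexShape.embeddingUpNat
  | Int.negSucc _ => HomologicalComplex.zero

lemma row_d_congr {q q' : ℤ} (h : q = q') (i j : ℤ) :
    (row K q).d i j ≫ eqToHom (by rw [h]) = eqToHom (by rw [h]) ≫ (row K q').d i j := by
  subst h; simp

/-- The first page. -/
noncomputable def pageOne : HomologicalComplex C (ComplexShape.up' (⟨1, 1 - 1⟩ : ℤ × ℤ)) where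
  X pq := (row K pq.2).X pq.1
  d pq pq' := if h : pq.2 = pq'.2 then (row K pq.2).d pq.1 pq'.1 ≫ eqToHom (by rw [h]) else 0
  shape pq pq' hr := by
    by_cases h : pq.2 = pq'.2
    · rw [dif_pos h, (row K pq.2).shape _ _ ?_, zero_comp]
      intro hh
      exact hr (Prod.ext hh (by simpa using h))
    · rw [dif_neg h]
  d_comp_d' pq pq' pq'' _ _ := by
    by_cases h : pq.2 = pq'.2
    · by_cases h' : pq'.2 = pq''.2
      · rw [dif_pos h, dif_pos h', Category.assoc, ← reassoc_of% row_d_congr K h pq'.1 pq''.1,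
          HomologicalComplex.d_comp_d_assoc, zero_comp]
      · rw [dif_neg h', comp_zero]
    · rw [dif_neg h, zero_comp]

/-- The later pages. -/
noncomputable def pageHigh (r : ℤ) : HomologicalComplex C (ComplexShape.up' (⟨r, 1 - r⟩ : ℤ × ℤ)) where
  X pq := (row K pq.2).homology pq.1
  d _ _ := 0

/-- All pages. -/
noncomputable def pageFun (r : ℤ) : HomologicalComplex C (ComplexShape.up' (⟨r, 1 - r⟩ : ℤ × ℤ)) :=
  if h : r = 1 then h ▸ pageOne K else pageHigh K r

lemma pageFun_one : pageFun K 1 = pageOne K := dif_pos rfl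

lemma pageFun_high {r : ℤ} (h : r ≠ 1) : pageFun K r = pageHigh K r := dif_neg h

/-- Homology of the first page. -/
noncomputable def pageOneIso (p q : ℤ) : (pageOne K).homology (p, q) ≅ (row K q).homology p :=
  (pageOne K).homologyIsoSc' (p - 1, q) (p, q) (p + 1, q)
      ((ComplexShape.up' _).prev_eq' (Prod.ext (sub_add_cancel p 1) (add_zero q)))
      ((ComplexShape.up' _).next_eq' (Prod.ext rfl (add_zero q))) ≪≫
    ShortComplex.homologyMapIso
      (show (pageOne K).sc' (p - 1, q) (p, q) (p + 1, q) ≅ (row K q).sc' (p - 1) p (p + 1) from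
        ShortComplex.isoMk (Iso.refl _) (Iso.refl _) (Iso.refl _) (by simp [pageOne]; exact (Category.id_comp _).trans (Category.comp_id _).symm)
          (by simp [pageOne]; exact (Category.id_comp _).trans (Category.comp_id _).symm)) ≪≫
    ((row K q).homologyIsoSc' (p - 1) p (p + 1) (CochainComplex.prev _ p) (CochainComplex.next _ p)).symm

/-- Homology with zero differentials. -/
noncomputable def pageHighIso (r : ℤ) (pq : ℤ × ℤ) : (pageHigh K r).homology pq ≅ (row K pq.2).homology pq.1 :=
  (ShortComplex.HomologyData.ofZeros ((pageHigh K r).sc pq) rfl rfl).left.homologyIso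

/-- The spectral sequence. -/
noncomputable def degenSS : CohomologicalSpectralSequence C 1 where
  page r _ := pageFun K r
  iso r r' pq hrr' hr :=
    if h : r = 1 then by
      subst h
      exact (HomologicalComplex.homologyFunctor _ _ pq).mapIso (eqToIso (pageFun_one K)) ≪≫
        pageOneIso K pq.1 pq.2 ≪≫ eqToIso (congrArg (fun P => P.X pq) (pageFun_high K (show r' ≠ 1 by omega))).symm
    else
      (HomologicalComplex.homologyFunctor _ _ pq).mapIso (eqToIso (pageFun_high K h)) ≪≫
        pageHighIso K r pq ≪≫ eqToIso (congrArg (fun P => P.X pq) (pageFun_high K (show r' ≠ 1 by omega))).symm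

section Graded

variable {X : C}

lemma nonempty_subquot_bot {S T : Subobject X} (hS : S = ⊤) (hT : T = ⊥) (h : T ≤ S) :
    Nonempty (cokernel (T.ofLE S h) ≅ X) := by
  subst hS hT
  have h0 : Subobject.ofLE ⊥ (⊤ : Subobject X) h = 0 := (IsZero.of_iso (isZero_zero C) Subobject.botCoeIsoZero).eq_of_src _ _
  exact ⟨cokernelIsoOfEq h0 ≪≫ cokernelZeroIsoTarget ≪≫ asIso (⊤ : Subobject X).arrow⟩

/-- The two step filtration. -/
noncomputable def stepFil (X : C) (i : ℤ) : Subobject X := if i ≤ 0 then ⊤ else ⊥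

lemma stepFil_antitone (X : C) : Antitone (stepFil X) := fun i j hij => by
  unfold stepFil
  by_cases hj : j ≤ 0
  · rw [if_pos hj, if_pos (le_trans hij hj)]
  · rw [if_neg hj]; exact bot_le

lemma isZero_subquot {S T : Subobject X} (hT : T = S) (h : T ≤ S) : IsZero (cokernel (T.ofLE S h)) := by
  subst hT
  rw [Subobject.ofLE_refl]
  exact isZero_cokernel_of_epi _

end Graded

theorem exists_degenerate (H : ℕ → C) (h0 : ∀ q, Nonempty ((K q).homology 0 ≅ H q))
    (hp : ∀ q p : ℕ, IsZero ((K q).homology (p + 1))) (Z : C) (hZ : IsZero Z) :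
    ∃ (E : CohomologicalSpectralSequence C 1)
      (a : SpSeq.Abutment E (fun n : ℤ => if 0 ≤ n then H n.toNat else Z)),
      (∀ n, a.IsFinite n) ∧ SpSeq.IsBounded E ∧
      ∀ p q : ℤ, Nonempty ((E.page 1 le_rfl).X (p, q) ≅
        (if 0 ≤ p ∧ 0 ≤ q then (K q.toNat).X p.toNat else Z)) := by
  have hX : ∀ p q : ℤ, Nonempty (((degenSS K).page 1 le_rfl).X (p, q) ≅
      (if 0 ≤ p ∧ 0 ≤ q then (K q.toNat).X p.toNat else Z)) := by
    intro p q
    refine ⟨eqToIso (congrArg (fun P => P.X (p, q)) (pageFun_one K)) ≪≫ (?_ : (row K q).X p ≅ _)⟩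
    rcases q with q | q
    · by_cases h : 0 ≤ p
      · rw [if_pos ⟨h, Int.natCast_nonneg q⟩]
        exact (K q).extendXIso ComplexShape.embeddingUpNat (i := p.toNat) (by simp; omega)
      · rw [if_neg (fun hh => h hh.1)]
        exact ((K q).isZero_extend_X ComplexShape.embeddingUpNat p (fun i => by simp; omega)).iso hZ
    · rw [if_neg (fun hh => absurd hh.2 (by omega))]
      exact IsZero.iso (isZero_zero C) hZ
  have hcol : ∀ p q : ℤ, p ≠ 0 ∨ q < 0 → IsZero ((row K q).homology p) := by
    intro p q h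
    rcases q with q | q
    · by_cases h' : 0 ≤ p
      · obtain ⟨p, rfl⟩ : ∃ m : ℕ, p = (m : ℤ) + 1 := ⟨(p - 1).toNat, by
          have : p ≠ 0 := h.resolve_right (by simp)
          omega⟩
        exact (hp q p).of_iso ((K q).extendHomologyIso ComplexShape.embeddingUpNat
          (j := p + 1) (j' := (p : ℤ) + 1) (by simp))
      · exact ((row K (Int.ofNat q)).exactAt_iff_isZero_homology p).1
          ((K q).extend_exactAt ComplexShape.embeddingUpNat p (fun j => by simp; omega))
    · exact ShortComplex.isZero_homology_of_isZero_X₂ _ (isZero_zero C)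
  have hβ : ∀ p q : ℤ, Nonempty ((row K q).homology p ≅ SpSeq.grPiece
      (stepFil (if 0 ≤ p + q then H (p + q).toNat else Z)) (stepFil_antitone _) p) := by
    intro p q
    rcases eq_or_ne p 0 with rfl | hp0
    · obtain ⟨e⟩ := nonempty_subquot_bot (if_pos (le_refl (0 : ℤ))) (if_neg (show ¬ ((0 : ℤ) + 1 ≤ 0) by omega))
        (X := if 0 ≤ (0 : ℤ) + q then H ((0 : ℤ) + q).toNat else Z) bot_le
      refine ⟨(?_ : _ ≅ (if 0 ≤ (0 : ℤ) + q then H ((0 : ℤ) + q).toNat else Z)) ≪≫ e.symm⟩
      rcases q with q | q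
      · rw [if_pos (by simp)]
        exact (K q).extendHomologyIso ComplexShape.embeddingUpNat (j := 0) (j' := 0) (by simp) ≪≫
          (h0 q).some ≪≫ eqToIso (congrArg H (by simp))
      · rw [if_neg (by omega)]
        exact (hcol 0 _ (Or.inr (Int.negSucc_lt_zero q))).iso hZ
    · exact ⟨(hcol p q (Or.inl hp0)).iso (isZero_subquot (by
        unfold stepFil
        by_cases h' : p ≤ 0
        · rw [if_pos h', if_pos (show p + 1 ≤ 0 by omega)]
        · rw [if_neg h', if_neg (show ¬ p + 1 ≤ 0 by omega)]) _)⟩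
  refine ⟨degenSS K,
    { fil := fun n => stepFil _
      anti := fun n => stepFil_antitone _
      rk := fun _ => 2
      stat := fun pq => ⟨Int.le_add_one le_rfl, fun r' h₀ h => by
        have he := pageFun_high K (show r' ≠ 1 by omega)
        exact ⟨by change (pageFun K r').d _ _ = 0; rw [he]; rfl, by change (pageFun K r').d _ _ = 0; rw [he]; rfl⟩⟩
      β := fun pq => eqToIso (congrArg (fun P => P.X pq) (pageFun_high K (show (2 : ℤ) ≠ 1 by omega))) ≪≫
        (hβ pq.1 pq.2).some },
    fun n => ⟨⟨0, show stepFil _ 0 = ⊤ from if_pos le_rfl⟩, ⟨1, show stepFil _ 1 = ⊥ from if_neg (show ¬ ((1 : ℤ) ≤ 0) by omega)⟩⟩, ?_, hX⟩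
  intro n
  refine (Set.finite_Icc (0 : ℤ) n).subset fun p hp' => ?_
  by_contra hcon
  apply hp'
  obtain ⟨e⟩ := hX p (n - p)
  refine IsZero.of_iso ?_ e
  rw [if_neg (fun hh => hcon ⟨hh.1, by omega⟩)]
  exact hZ

section Simplicial

variable {B : Type u₀} [Category.{v₀} B] (G : B ⥤ AddCommGrpCat.{v}ᵒᵖ) (X : SimplicialObject.Augmented B)

/-- The cochain complex of a functor on an augmented simplicial object. -/
noncomputable def simplCx : CochainComplex AddCommGrpCat.{v} ℕ :=
  (AlgebraicTopology.AlternatingFaceMapComplex.obj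
    (SimplicialObject.Augmented.drop.obj (((SimplicialObject.Augmented.whiskering _ _).obj G).obj X))).unop

lemma simplCx_X (p : ℕ) : (simplCx G X).X p = (G.obj (X.left.obj (op ⦋p⦌))).unop := rfl

lemma simplCx_homology (ed : X.ExtraDegeneracy) :
    Nonempty ((simplCx G X).homology 0 ≅ (G.obj X.right).unop) ∧ ∀ p, IsZero ((simplCx G X).homology (p + 1)) := by
  let e := (ed.map G).homotopyEquiv
  let L := AlgebraicTopology.AlternatingFaceMapComplex.obj
    (SimplicialObject.Augmented.drop.obj (((SimplicialObject.Augmented.whiskering _ _).obj G).obj X))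
  refine ⟨⟨L.homologyUnop 0 ≪≫ ((e.toHomologyIso 0) ≪≫
      (HomologicalComplex.singleObjHomologySelfIso (ComplexShape.down ℕ) 0 (G.obj X.right))).symm.unop⟩,
    fun p => ?_⟩
  refine IsZero.of_iso ?_ (L.homologyUnop (p + 1))
  exact ((HomologicalComplex.isZero_single_obj_homology (ComplexShape.down ℕ) 0 (G.obj X.right) (p + 1)
    (by omega)).of_iso (e.toHomologyIso (p + 1))).unop

end Simplicial

end Groth.Agent.DescSec
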