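import Groth.Agent.DescSec.Fun
import Groth.Agent.DescSec.SS

/-!
# Descent along a morphism with a section
-/

set_option autoImplicit false

universe w v v₀ u₀

open CategoryTheory CategoryTheory.Limits CategoryTheory.Abelian Opposite Simplicial

namespace Groth.Agent.DescSec

section Lift

variable {B : Type u₀} [Category.{v₀} B] (X : SimplicialObject.Augmented B)

/-- An augmented simplicial object over its augmentation. -/
def overAug : SimplicialObject.Augmented (Over X.right) where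
  left :=
    { obj := fun n => Over.mk (show X.left.obj n ⟶ X.right from X.hom.app n)
      map := fun {n m} g => Over.homMk (X.left.map g) (by
        simpa using X.hom.naturality g) }
  right := Over.mk (𝟙 X.right)
  hom := { app := fun n => Over.homMk (X.hom.app n) (Category.comp_id _) }

/-- The extra degeneracy over the augmentation. -/
def overAugExtra (ed : X.ExtraDegeneracy) : (overAug X).ExtraDegeneracy where
  s' := Over.homMk ed.s' ed.s'_comp_ε
  s n := Over.homMk (ed.s n) (by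
    change ed.s n ≫ X.hom.app (op ⦋n + 1⦌) = X.hom.app (op ⦋n⦌)
    have h : X.left.δ 0 ≫ X.hom.app (op ⦋n⦌) = X.hom.app (op ⦋n + 1⦌) :=
      (X.hom.naturality (SimplexCategory.δ (0 : Fin (n + 2))).op).trans (Category.comp_id _)
    rw [← h, ed.s_comp_δ₀_assoc])
  s'_comp_ε := Over.OverMorphism.ext ed.s'_comp_ε
  s₀_comp_δ₁ := Over.OverMorphism.ext ed.s₀_comp_δ₁
  s_comp_δ₀ n := Over.OverMorphism.ext (ed.s_comp_δ₀ n)
  s_comp_δ n i := Over.OverMorphism.ext (ed.s_comp_δ n i)
  s_comp_σ n i := Over.OverMorphism.ext (ed.s_comp_σ n i)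

end Lift

section Iso

variable {C : Type w} [Category.{v} C] [Abelian C] [HasExt.{v} C]

/-- `Ext` along isomorphisms. -/
noncomputable def extIso {A A' B B' : C} (a : A ≅ A') (b : B ≅ B') (n : ℕ) : Ext A B n ≃+ Ext A' B' n where
  toFun x := ((Ext.mk₀ a.inv).comp x (zero_add n)).comp (Ext.mk₀ b.hom) (add_zero n)
  invFun x := ((Ext.mk₀ a.hom).comp x (zero_add n)).comp (Ext.mk₀ b.inv) (add_zero n)
  left_inv x := by simp [Ext.comp_assoc_of_third_deg_zero]
  right_inv x := by simp [Ext.comp_assoc_of_third_deg_zero]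
  map_add' x y := by simp [Ext.comp_add, Ext.add_comp]

end Iso

variable {B : Type u₀} [Category.{v₀} B] [HasFiniteWidePullbacks B] {A : B → Type w} [∀ b, Category.{v} (A b)]
  (PS : PullSys A) [∀ b, Abelian (A b)] [∀ b, HasExt.{v} (A b)] [∀ b, EnoughInjectives (A b)]
  [∀ {b c : B} (g : b ⟶ c), (PS.P g).Additive] [∀ {b c : B} (g : b ⟶ c), PreservesFiniteLimits (PS.P g)]
  [∀ {b c : B} (g : b ⟶ c), PreservesFiniteColimits (PS.P g)]

/-- The descent spectral sequence of a morphism with a section. -/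
theorem exists_descentSS {X S : B} (f : X ⟶ S) (s : S ⟶ X) (hs : s ≫ f = 𝟙 S) (Z F : A S)
    (H : ℕ → AddCommGrpCat.{v}) (hH : ∀ q, Nonempty (AddCommGrpCat.of (Ext Z F q) ≅ H q))
    (P : ℕ → ℕ → AddCommGrpCat.{v})
    (hP : ∀ p q : ℕ, Nonempty (AddCommGrpCat.of (Ext
      ((PS.P (WidePullback.base (fun _ : Fin (p + 1) => f) :
        widePullback S (fun _ : Fin (p + 1) => X) (fun _ => f) ⟶ S)).obj Z)
      ((PS.P (WidePullback.base (fun _ : Fin (p + 1) => f) :
        widePullback S (fun _ : Fin (p + 1) => X) (fun _ => f) ⟶ S)).obj F) q) ≅ P p q))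
    (O : AddCommGrpCat.{v}) (hO : IsZero O) :
    ∃ (E : CohomologicalSpectralSequence AddCommGrpCat.{v} 1)
      (a : SpSeq.Abutment E (fun n : ℤ => if 0 ≤ n then H n.toNat else O)),
      (∀ n, a.IsFinite n) ∧ SpSeq.IsBounded E ∧
      ∀ p q : ℤ, Nonempty ((E.page 1 le_rfl).X (p, q) ≅
        (if 0 ≤ p ∧ 0 ≤ q then P p.toNat q.toNat else O)) := by
  let Aug := overAug (Arrow.augmentedCechNerve (Arrow.mk f))
  have ed : Aug.ExtraDegeneracy := overAugExtra _ (Arrow.AugmentedCechNerve.extraDegeneracy (Arrow.mk f) ⟨s, hs⟩)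
  have hq := fun q => simplCx_homology (PS.extFun Z F q) Aug ed
  obtain ⟨E, a, ha, hb, hE⟩ := exists_degenerate (fun q => simplCx (PS.extFun Z F q) Aug) H
    (fun q => ⟨(hq q).1.some ≪≫ (extIso ((PS.ε S).app Z) ((PS.ε S).app F) q).toAddCommGrpIso ≪≫ (hH q).some⟩)
    (fun q => (hq q).2) O hO
  refine ⟨E, a, ha, hb, fun p q => ⟨(hE p q).some ≪≫ ?_⟩⟩
  by_cases h : 0 ≤ p ∧ 0 ≤ q
  · rw [if_pos h, if_pos h]
    exact (hP p.toNat q.toNat).some
  · rw [if_neg h, if_neg h]

end Groth.Agent.DescSec
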