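import Groth.Prelude.Def_EtBase
import Groth.Prelude.Def_EtCore
import Groth.Agent.DescSec.Nerve
import Groth.Agent.EtSite.PullStalk
import Mathlib.CategoryTheory.Adjunction.CompositionIso

/-!
# Descent with a section on small étale sites
-/

set_option autoImplicit false
set_option linter.style.haveILetI false

universe u

open CategoryTheory CategoryTheory.Limits AlgebraicGeometry Opposite CategoryTheory.Abelian

set_option backward.isDefEq.respectTransparency false
set_option backward.defeqAttrib.useBackward true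

namespace Groth.Agent.DescSec

section Abstract

variable {T : Type*} [Category T] [HasPullbacks T] (P : MorphismProperty T) [P.IsStableUnderBaseChange]
  {X₁ X₂ X₃ X₄ : T}

lemma pullbackComp_assoc (f : X₁ ⟶ X₂) (g : X₂ ⟶ X₃) (h : X₃ ⟶ X₄) (A : P.Over ⊤ X₄) :
    (MorphismProperty.Over.pullbackComp (P := P) (Q := ⊤) f (g ≫ h) ((f ≫ g) ≫ h) (Category.assoc f g h)).hom.app A ≫
        (MorphismProperty.Over.pullback P ⊤ f).map
          ((MorphismProperty.Over.pullbackComp (P := P) (Q := ⊤) g h).hom.app A) =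
      (MorphismProperty.Over.pullbackComp (P := P) (Q := ⊤) (f ≫ g) h).hom.app A ≫
        (MorphismProperty.Over.pullbackComp (P := P) (Q := ⊤) f g).hom.app
          ((MorphismProperty.Over.pullback P ⊤ h).obj A) := by
  apply MorphismProperty.Over.Hom.ext
  apply pullback.hom_ext
  · apply pullback.hom_ext
    · apply pullback.hom_ext <;> simp [MorphismProperty.Over.pullbackComp, pullback.congrHom_hom, pullback.condition]
    · simp [MorphismProperty.Over.pullbackComp, pullback.congrHom_hom]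
  · simp [MorphismProperty.Over.pullbackComp, pullback.congrHom_hom]

end Abstract

variable {T₁ T₂ T₃ T₄ : Scheme.{u}}

/-- Base change along a composite. -/
noncomputable def bcComp (g : T₁ ⟶ T₂) (h : T₂ ⟶ T₃) (gh : T₁ ⟶ T₃) (w : gh = g ≫ h) :
    EtCoh.bc h ⋙ EtCoh.bc g ≅ EtCoh.bc gh :=
  (MorphismProperty.Over.pullbackComp (P := EtCoh.etaleMP) (Q := ⊤) g h gh w).symm

/-- The fibre product with the identity. -/
noncomputable def pullbackIdIso {T : Scheme.{u}} (U : T.Etale) :
    pullback U.hom (𝟙 T) ≅ U.left where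
  hom := pullback.fst U.hom (𝟙 T)
  inv := pullback.lift (𝟙 U.left) U.hom (by simp)
  hom_inv_id := by
    apply pullback.hom_ext
    · simp
    · simp [pullback.condition]
  inv_hom_id := by simp

/-- Base change along the identity. -/
noncomputable def bcId (T : Scheme.{u}) : EtCoh.bc (𝟙 T) ≅ 𝟭 T.Etale :=
  NatIso.ofComponents
    (fun U => MorphismProperty.Over.isoMk (pullbackIdIso U)
      (by change pullback.fst U.hom (𝟙 T) ≫ U.hom = pullback.snd U.hom (𝟙 T)
          rw [pullback.condition, Category.comp_id]))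
    (fun {U V} g => MorphismProperty.Over.Hom.ext (by
      exact pullback.lift_fst _ _ _))

/-- Direct images compose. -/
noncomputable def etPushComp (g : T₁ ⟶ T₂) (h : T₂ ⟶ T₃) (gh : T₁ ⟶ T₃) (w : gh = g ≫ h) :
    EtCoh.push g ⋙ EtCoh.push h ≅ EtCoh.push gh :=
  Functor.sheafPushforwardContinuousComp' (F := EtCoh.bc h) (G := EtCoh.bc g) (FG := EtCoh.bc gh)
    (bcComp g h gh w) AddCommGrpCat.{u + 1} T₃.smallEtaleTopology T₂.smallEtaleTopology T₁.smallEtaleTopology

/-- Inverse images compose. -/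
noncomputable def etPullComp (g : T₁ ⟶ T₂) (h : T₂ ⟶ T₃) (gh : T₁ ⟶ T₃) (w : gh = g ≫ h) :
    EtCoh.pull h ⋙ EtCoh.pull g ≅ EtCoh.pull gh :=
  Adjunction.leftAdjointCompIso (EtCoh.pullPushAdj h) (EtCoh.pullPushAdj g) (EtCoh.pullPushAdj gh)
    (etPushComp g h gh w)

lemma etPullComp_congr (g : T₁ ⟶ T₂) (h : T₂ ⟶ T₃) (gh : T₁ ⟶ T₃) (w : gh = g ≫ h) (F : EtCoh.Ab T₃) :
    (etPullComp g h gh w).hom.app F = (etPullComp g h (g ≫ h) rfl).hom.app F ≫ eqToHom (by rw [w]) := by
  subst w; simp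

lemma etPushComp_assoc (f : T₁ ⟶ T₂) (g : T₂ ⟶ T₃) (h : T₃ ⟶ T₄) :
    Functor.isoWhiskerLeft (EtCoh.push f) (etPushComp g h (g ≫ h) rfl) ≪≫
        etPushComp f (g ≫ h) ((f ≫ g) ≫ h) (Category.assoc f g h) =
      (Functor.associator _ _ _).symm ≪≫
        Functor.isoWhiskerRight (etPushComp f g (f ≫ g) rfl) (EtCoh.push h) ≪≫
          etPushComp (f ≫ g) h ((f ≫ g) ≫ h) rfl := by
  ext1
  refine NatTrans.ext (funext fun F => ?_)
  ext U : 3
  dsimp [etPushComp]
  simp
  refine ((F.obj.map_comp _ _).symm.trans (congrArg (fun x => F.obj.map (Quiver.Hom.op x)) ?_)).trans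
    (F.obj.map_comp _ _)
  exact pullbackComp_assoc EtCoh.etaleMP f g h U.unop

/-- The system of inverse images. -/
noncomputable def etPullSys : PullSys (fun X : Scheme.{u} => EtCoh.Ab X) where
  P g := EtCoh.pull g
  θ g h := etPullComp g h (g ≫ h) rfl
  ε X := Adjunction.leftAdjointIdIso (EtCoh.pullPushAdj (𝟙 X))
    (Functor.sheafPushforwardContinuousId' (bcId X) AddCommGrpCat.{u + 1} X.smallEtaleTopology)
  assoc {a b c d} f g h F := by
    have := Adjunction.leftAdjointCompIso_assoc (EtCoh.pullPushAdj h) (EtCoh.pullPushAdj g)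
      (EtCoh.pullPushAdj f) (EtCoh.pullPushAdj (g ≫ h)) (EtCoh.pullPushAdj (f ≫ g))
      (EtCoh.pullPushAdj ((f ≫ g) ≫ h)) (etPushComp g h (g ≫ h) rfl) (etPushComp f g (f ≫ g) rfl)
      (etPushComp (f ≫ g) h ((f ≫ g) ≫ h) rfl) (etPushComp f (g ≫ h) ((f ≫ g) ≫ h) (Category.assoc f g h))
      (etPushComp_assoc f g h)
    have h2 : (etPullComp f g (f ≫ g) rfl).hom.app ((EtCoh.pull h).obj F) ≫
        (etPullComp (f ≫ g) h ((f ≫ g) ≫ h) rfl).hom.app F =
      (EtCoh.pull f).map ((etPullComp g h (g ≫ h) rfl).hom.app F) ≫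
        (etPullComp f (g ≫ h) ((f ≫ g) ≫ h) (Category.assoc f g h)).hom.app F := by
      have h3 := congrArg (fun e => e.hom.app F) this
      simpa [etPullComp] using h3
    rw [etPullComp_congr f (g ≫ h) ((f ≫ g) ≫ h) (Category.assoc f g h) F] at h2
    rw [reassoc_of% h2, eqToHom_trans, eqToHom_refl, Category.comp_id]

instance (g : T₁ ⟶ T₂) : (etPullSys.{u}.P g).Additive := (EtCoh.pullPushAdj g).left_adjoint_additive

instance (g : T₁ ⟶ T₂) : PreservesFiniteLimits (etPullSys.{u}.P g) :=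
  inferInstanceAs (PreservesFiniteLimits (EtCoh.pull g))

instance (g : T₁ ⟶ T₂) : PreservesFiniteColimits (etPullSys.{u}.P g) :=
  inferInstanceAs (PreservesFiniteColimits (EtCoh.pull g))

theorem exists_descentSS_et {X Y : Scheme.{u}} (f : X ⟶ Y) (s : Y ⟶ X) (hs : s ≫ f = 𝟙 Y) (F : EtCoh.Ab Y)
    (O : AddCommGrpCat.{u + 1}) (hO : IsZero O) :
    ∃ (E : CohomologicalSpectralSequence AddCommGrpCat.{u + 1} 1)
      (a : SpSeq.Abutment E (fun n : ℤ => if 0 ≤ n then AddCommGrpCat.of (EtCoh.H Y F n.toNat) else O)),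
      (∀ n, a.IsFinite n) ∧ SpSeq.IsBounded E ∧
      ∀ p q : ℤ, Nonempty ((E.page 1 le_rfl).X (p, q) ≅
        (if 0 ≤ p ∧ 0 ≤ q then
          AddCommGrpCat.of (EtCoh.H (widePullback Y (fun _ : Fin (p.toNat + 1) => X) (fun _ => f))
            ((EtCoh.pull (WidePullback.base (fun _ : Fin (p.toNat + 1) => f) :
              widePullback Y (fun _ : Fin (p.toNat + 1) => X) (fun _ => f) ⟶ Y)).obj F) q.toNat)
         else O)) := by
  exact exists_descentSS etPullSys f s hs
    ((constantSheaf Y.smallEtaleTopology AddCommGrpCat.{u + 1}).obj (AddCommGrpCat.of (ULift.{u + 1} ℤ))) F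
    (fun q => AddCommGrpCat.of (EtCoh.H Y F q)) (fun q => ⟨Iso.refl _⟩)
    (fun p q => AddCommGrpCat.of (EtCoh.H (widePullback Y (fun _ : Fin (p + 1) => X) (fun _ => f))
      ((EtCoh.pull (WidePullback.base (fun _ : Fin (p + 1) => f) :
        widePullback Y (fun _ : Fin (p + 1) => X) (fun _ => f) ⟶ Y)).obj F) q))
    (fun p q => ⟨(extIso ((EtCore.pullConstIso (WidePullback.base (fun _ : Fin (p + 1) => f) :
      widePullback Y (fun _ : Fin (p + 1) => X) (fun _ => f) ⟶ Y)).app _) (Iso.refl _) q).toAddCommGrpIso⟩)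
    O hO

end Groth.Agent.DescSec
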