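import Groth.Agent.EtMV.ExtAdj
import Mathlib.Algebra.Category.Grp.Basic
import Mathlib.CategoryTheory.Comma.Over.Basic

/-!
# Functoriality of pullback on cohomology
-/

universe w v v₀ u₀

open CategoryTheory CategoryTheory.Limits CategoryTheory.Abelian Opposite

namespace Groth.Agent.DescSec

section Identity

variable {C : Type w} [Category.{v} C] [Abelian C] [HasExt.{v} C] [EnoughInjectives C]

attribute [local instance] Ext.subsingleton_of_injective in
theorem mapExactFunctor_toId (G : C ⥤ C) [G.Additive] [PreservesFiniteLimits G] [PreservesFiniteColimits G]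
    (θ : G ⟶ 𝟭 C) {X Y : C} {n : ℕ} (x : Ext X Y n) :
    (x.mapExactFunctor G).comp (Ext.mk₀ (θ.app Y)) (add_zero n) =
      (Ext.mk₀ (θ.app X)).comp x (zero_add n) := by
  induction n generalizing Y with
  | zero =>
    obtain ⟨f, rfl⟩ := (Ext.mk₀_bijective _ _).2 x
    simp only [Ext.mapExactFunctor_mk₀, Ext.mk₀_comp_mk₀]
    exact congrArg Ext.mk₀ (θ.naturality f)
  | succ n hn =>
    let I : InjectivePresentation Y := Classical.arbitrary _
    let S := ShortComplex.mk _ _ (cokernel.condition I.f)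
    haveI : Injective S.X₂ := I.injective
    have hS : S.ShortExact := { exact := ShortComplex.exact_cokernel I.f }
    obtain ⟨x₃, hx₃⟩ := Ext.covariant_sequence_exact₁ X hS x (by subsingleton) rfl
    let φ : S.map G ⟶ S :=
      { τ₁ := θ.app S.X₁
        τ₂ := θ.app S.X₂
        τ₃ := θ.app S.X₃
        comm₁₂ := (θ.naturality S.f).symm
        comm₂₃ := (θ.naturality S.g).symm }
    have key : (hS.map_of_exact G).extClass.comp (Ext.mk₀ (θ.app Y)) (add_zero 1) =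
        (Ext.mk₀ (θ.app S.X₃)).comp hS.extClass (zero_add 1) :=
      ShortComplex.ShortExact.extClass_naturality _ _ φ
    rw [← hx₃, EtMV.mapExactFunctor_comp_extClass (R := G) hS x₃ rfl]
    erw [Ext.comp_assoc_of_third_deg_zero, key, ← Ext.comp_assoc_of_second_deg_zero, hn x₃]
    exact Ext.comp_assoc _ _ _ _ _ (by omega)

theorem mapExactFunctor_bijective_of_iso (G : C ⥤ C) [G.Additive] [PreservesFiniteLimits G]
    [PreservesFiniteColimits G] (e : G ≅ 𝟭 C) (X Y : C) (n : ℕ) :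
    Function.Bijective (fun x : Ext X Y n => x.mapExactFunctor G) := by
  have h : ∀ x : Ext X Y n, x.mapExactFunctor G =
      ((Ext.mk₀ (e.hom.app X)).comp x (zero_add n)).comp (Ext.mk₀ (e.inv.app Y)) (add_zero n) := fun x => by
    rw [← mapExactFunctor_toId G e.hom x, Ext.comp_assoc_of_third_deg_zero, Ext.mk₀_comp_mk₀]
    erw [Iso.hom_inv_id_app, Ext.comp_mk₀_id]
  constructor
  · intro x y hxy
    have := congrArg (fun z => ((Ext.mk₀ (e.inv.app X)).comp z (zero_add n)).comp (Ext.mk₀ (e.hom.app Y)) (add_zero n)) hxy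
    simpa [h, Ext.comp_assoc_of_third_deg_zero] using this
  · intro z
    refine ⟨((Ext.mk₀ (e.inv.app X)).comp z (zero_add n)).comp (Ext.mk₀ (e.hom.app Y)) (add_zero n), ?_⟩
    simp [h, Ext.comp_assoc_of_third_deg_zero]

end Identity

/-- Inverse images along the maps of a category. -/
structure PullSys {B : Type u₀} [Category.{v₀} B] (A : B → Type w) [∀ b, Category.{v} (A b)] where
  /-- The inverse image. -/
  P {b c : B} : (b ⟶ c) → A c ⥤ A b
  /-- Inverse images compose. -/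
  θ {a b c : B} (g : a ⟶ b) (h : b ⟶ c) : P h ⋙ P g ≅ P (g ≫ h)
  /-- The inverse image along an identity. -/
  ε (b : B) : P (𝟙 b) ≅ 𝟭 (A b)
  assoc {a b c d : B} (f : a ⟶ b) (g : b ⟶ c) (h : c ⟶ d) (X : A d) :
    (P f).map ((θ g h).hom.app X) ≫ (θ f (g ≫ h)).hom.app X =
      (θ f g).hom.app ((P h).obj X) ≫ (θ (f ≫ g) h).hom.app X ≫ eqToHom (by rw [Category.assoc])

namespace PullSys

variable {B : Type u₀} [Category.{v₀} B] {A : B → Type w} [∀ b, Category.{v} (A b)] (PS : PullSys A)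
  {S : B}

/-- Inverse images of inverse images from `S`. -/
def cS {a b : Over S} (g : a ⟶ b) (X : A S) : (PS.P g.left).obj ((PS.P b.hom).obj X) ≅ (PS.P a.hom).obj X :=
  (PS.θ g.left b.hom).app X ≪≫ eqToIso (by rw [Over.w g])

lemma cS_comp_aux {T₁ T₂ T₃ : B} (g : T₁ ⟶ T₂) (h : T₂ ⟶ T₃) (π₃ : T₃ ⟶ S) (π₂ : T₂ ⟶ S) (π₁ : T₁ ⟶ S)
    (w₂ : h ≫ π₃ = π₂) (w₁ : g ≫ π₂ = π₁) (X : A S) :
    (PS.P g).map ((PS.θ h π₃).hom.app X ≫ eqToHom (by rw [w₂])) ≫
        (PS.θ g π₂).hom.app X ≫ eqToHom (by rw [w₁]) =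
      (PS.θ g h).hom.app ((PS.P π₃).obj X) ≫ (PS.θ (g ≫ h) π₃).hom.app X ≫
        eqToHom (by rw [Category.assoc, w₂, w₁]) := by
  subst w₂ w₁
  simp [PS.assoc]

lemma cS_comp {a b c : Over S} (g : a ⟶ b) (h : b ⟶ c) (X : A S) :
    (PS.P g.left).map (PS.cS h X).hom ≫ (PS.cS g X).hom =
      (PS.θ g.left h.left).hom.app ((PS.P c.hom).obj X) ≫ (PS.cS (g ≫ h) X).hom :=
  PS.cS_comp_aux g.left h.left c.hom b.hom a.hom (Over.w h) (Over.w g) X

variable [∀ b, Abelian (A b)] [∀ b, HasExt.{v} (A b)] [∀ b, EnoughInjectives (A b)]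
  [∀ {b c : B} (g : b ⟶ c), (PS.P g).Additive] [∀ {b c : B} (g : b ⟶ c), PreservesFiniteLimits (PS.P g)]
  [∀ {b c : B} (g : b ⟶ c), PreservesFiniteColimits (PS.P g)] (Z F : A S) (q : ℕ)

/-- Pullback on `Ext`. -/
noncomputable def pullExt {a b : Over S} (g : a ⟶ b) :
    Ext ((PS.P b.hom).obj Z) ((PS.P b.hom).obj F) q →+ Ext ((PS.P a.hom).obj Z) ((PS.P a.hom).obj F) q :=
  ((Ext.mk₀ (PS.cS g F).hom).postcomp _ (add_zero q)).comp
    (((Ext.mk₀ (PS.cS g Z).inv).precomp _ (zero_add q)).comp ((PS.P g.left).mapExtAddHom _ _ q))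

lemma pullExt_apply {a b : Over S} (g : a ⟶ b) (x : Ext ((PS.P b.hom).obj Z) ((PS.P b.hom).obj F) q) :
    PS.pullExt Z F q g x =
      ((Ext.mk₀ (PS.cS g Z).inv).comp (x.mapExactFunctor (PS.P g.left)) (zero_add q)).comp
        (Ext.mk₀ (PS.cS g F).hom) (add_zero q) := rfl

lemma pullExt_comp {a b c : Over S} (g : a ⟶ b) (h : b ⟶ c)
    (x : Ext ((PS.P c.hom).obj Z) ((PS.P c.hom).obj F) q) :
    PS.pullExt Z F q g (PS.pullExt Z F q h x) = PS.pullExt Z F q (g ≫ h) x := by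
  have hx := EtMV.mapExactFunctor_natTrans (PS.P h.left) (PS.P g.left) (PS.P (g ≫ h).left)
    (PS.θ g.left h.left).hom x
  have hz : (PS.cS g Z).inv ≫ (PS.P g.left).map (PS.cS h Z).inv ≫
      (PS.θ g.left h.left).hom.app ((PS.P c.hom).obj Z) = (PS.cS (g ≫ h) Z).inv := by
    have hc : (PS.P g.left).map (PS.cS h Z).inv ≫ (PS.P g.left).map (PS.cS h Z).hom = 𝟙 _ := by
      rw [← Functor.map_comp, Iso.inv_hom_id, CategoryTheory.Functor.map_id]
    rw [← cancel_mono (PS.cS (g ≫ h) Z).hom, Iso.inv_hom_id, Category.assoc, Category.assoc,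
      ← PS.cS_comp g h Z, reassoc_of% hc, Iso.inv_hom_id]
  rw [pullExt_apply, pullExt_apply, pullExt_apply, Ext.mapExactFunctor_comp, Ext.mapExactFunctor_comp,
    Ext.mapExactFunctor_mk₀, Ext.mapExactFunctor_mk₀, ← hz]
  simp only [Ext.comp_assoc_of_third_deg_zero, Ext.mk₀_comp_mk₀, PS.cS_comp g h F]
  rw [← Ext.mk₀_comp_mk₀ ((PS.θ g.left h.left).hom.app ((PS.P c.hom).obj F)) (PS.cS (g ≫ h) F).hom,
    ← Ext.comp_assoc_of_third_deg_zero _ (Ext.mk₀ ((PS.θ g.left h.left).hom.app ((PS.P c.hom).obj F)))]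
  erw [hx]
  simp only [Ext.comp_assoc_of_third_deg_zero, Ext.mk₀_comp_mk₀_assoc, Category.assoc]

lemma pullExt_id_bijective (a : Over S) : Function.Bijective (PS.pullExt Z F q (𝟙 a)) := by
  have h1 := mapExactFunctor_bijective_of_iso (PS.P (𝟙 a : a ⟶ a).left) (PS.ε a.left)
    ((PS.P a.hom).obj Z) ((PS.P a.hom).obj F) q
  have h2 : Function.Bijective (fun y : Ext ((PS.P (𝟙 a : a ⟶ a).left).obj ((PS.P a.hom).obj Z))
      ((PS.P (𝟙 a : a ⟶ a).left).obj ((PS.P a.hom).obj F)) q =>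
      ((Ext.mk₀ (PS.cS (𝟙 a) Z).inv).comp y (zero_add q)).comp (Ext.mk₀ (PS.cS (𝟙 a) F).hom) (add_zero q)) := by
    refine Function.bijective_iff_has_inverse.2 ⟨fun y =>
      ((Ext.mk₀ (PS.cS (𝟙 a) Z).hom).comp y (zero_add q)).comp (Ext.mk₀ (PS.cS (𝟙 a) F).inv) (add_zero q),
      fun y => ?_, fun y => ?_⟩
    · simp [Ext.comp_assoc_of_third_deg_zero]
    · simp [Ext.comp_assoc_of_third_deg_zero]
  exact h2.comp h1

lemma pullExt_id (a : Over S) (x : Ext ((PS.P a.hom).obj Z) ((PS.P a.hom).obj F) q) :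
    PS.pullExt Z F q (𝟙 a) x = x :=
  (PS.pullExt_id_bijective Z F q a).1 ((PS.pullExt_comp Z F q (𝟙 a) (𝟙 a) x).trans (by rw [Category.comp_id]))

/-- The presheaf `T ↦ Ext^q(Z|T, F|T)`. -/
noncomputable def extFun : Over S ⥤ AddCommGrpCat.{v}ᵒᵖ where
  obj a := op (AddCommGrpCat.of (Ext ((PS.P a.hom).obj Z) ((PS.P a.hom).obj F) q))
  map g := (AddCommGrpCat.ofHom (PS.pullExt Z F q g)).op
  map_id a := Quiver.Hom.unop_inj (AddCommGrpCat.hom_ext (AddMonoidHom.ext fun x => PS.pullExt_id Z F q a x))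
  map_comp g h := Quiver.Hom.unop_inj (AddCommGrpCat.hom_ext (AddMonoidHom.ext fun x =>
    (PS.pullExt_comp Z F q g h x).symm))

end PullSys

end Groth.Agent.DescSec
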