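import Groth.Prelude.Def_CohTop
import Groth.Agent.DescSec.Nerve
import Groth.Agent.SSExist.PullTop
import Mathlib.CategoryTheory.Adjunction.CompositionIso
import Mathlib.CategoryTheory.Sites.ConstantSheaf
import Mathlib.Topology.Category.TopCat.Limits.Basic

/-!
# Descent with a section on topological spaces
-/

set_option autoImplicit false
set_option linter.style.haveILetI false

universe u

open CategoryTheory CategoryTheory.Limits TopologicalSpace Opposite CategoryTheory.Abelian

namespace Groth.Agent.DescSec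

variable {T₁ T₂ T₃ : TopCat.{u}}

/-- The adjunction. -/
noncomputable abbrev topAdj (g : T₁ ⟶ T₂) : CohTop.pull g ⊣ CohTop.push g :=
  TopCat.Sheaf.pullbackPushforwardAdjunction AddCommGrpCat.{u} g

/-- Direct images compose. -/
noncomputable def topPushComp (g : T₁ ⟶ T₂) (h : T₂ ⟶ T₃) :
    CohTop.push g ⋙ CohTop.push h ≅ CohTop.push (g ≫ h) :=
  NatIso.ofComponents (fun _ => Iso.refl _)

/-- The system of inverse images. -/
noncomputable def topPullSys : PullSys (fun X : TopCat.{u} => CohTop.Ab X) where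
  P g := CohTop.pull g
  θ g h := Adjunction.leftAdjointCompIso (topAdj h) (topAdj g) (topAdj (g ≫ h)) (topPushComp g h)
  ε X := Adjunction.leftAdjointIdIso (topAdj (𝟙 X)) (NatIso.ofComponents (fun _ => Iso.refl _))
  assoc {a b c d} f g h F := by
    have := Adjunction.leftAdjointCompIso_assoc (topAdj h) (topAdj g) (topAdj f) (topAdj (g ≫ h))
      (topAdj (f ≫ g)) (topAdj ((f ≫ g) ≫ h)) (topPushComp g h) (topPushComp f g) (topPushComp (f ≫ g) h)
      (topPushComp f (g ≫ h)) (by ext F; rfl)
    have h2 := congrArg (fun e => e.hom.app F) this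
    simp at h2 ⊢
    exact h2.symm

instance (g : T₁ ⟶ T₂) : (topPullSys.{u}.P g).Additive := (topAdj g).left_adjoint_additive

instance (g : T₁ ⟶ T₂) : PreservesFiniteLimits (topPullSys.{u}.P g) := SSExist.preservesFiniteLimits_pullTop g

instance (g : T₁ ⟶ T₂) : PreservesFiniteColimits (topPullSys.{u}.P g) :=
  haveI : PreservesColimitsOfSize.{0, 0} (CohTop.pull g) := (topAdj g).leftAdjoint_preservesColimits
  PreservesColimitsOfSize.preservesFiniteColimits (CohTop.pull g)

/-- The inverse image of a constant sheaf is constant. -/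
noncomputable def topPullConst (g : T₁ ⟶ T₂) :
    constantSheaf (Opens.grothendieckTopology T₂) AddCommGrpCat.{u} ⋙ CohTop.pull g ≅
      constantSheaf (Opens.grothendieckTopology T₁) AddCommGrpCat.{u} :=
  Adjunction.leftAdjointUniq
    (((constantSheafAdj (Opens.grothendieckTopology T₂) AddCommGrpCat.{u} isTerminalTop).comp (topAdj g)).ofNatIsoRight
      (NatIso.ofComponents (fun _ => Iso.refl _) : CohTop.push g ⋙ (sheafSections _ AddCommGrpCat.{u}).obj (op ⊤) ≅
        (sheafSections _ AddCommGrpCat.{u}).obj (op ⊤)))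
    (constantSheafAdj (Opens.grothendieckTopology T₁) AddCommGrpCat.{u} isTerminalTop)

theorem exists_descentSS_top {X S : TopCat.{u}} (f : X ⟶ S) (s : S ⟶ X) (hs : s ≫ f = 𝟙 S) (F : CohTop.Ab S)
    (O : AddCommGrpCat.{u}) (hO : IsZero O) :
    ∃ (E : CohomologicalSpectralSequence AddCommGrpCat.{u} 1)
      (a : SpSeq.Abutment E (fun n : ℤ => if 0 ≤ n then AddCommGrpCat.of (CohTop.H F n.toNat) else O)),
      (∀ n, a.IsFinite n) ∧ SpSeq.IsBounded E ∧
      ∀ p q : ℤ, Nonempty ((E.page 1 le_rfl).X (p, q) ≅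
        (if 0 ≤ p ∧ 0 ≤ q then
          AddCommGrpCat.of (CohTop.H ((CohTop.pull
            (WidePullback.base (fun _ : Fin (p.toNat + 1) => f) :
              widePullback S (fun _ : Fin (p.toNat + 1) => X) (fun _ => f) ⟶ S)).obj F) q.toNat)
         else O)) := by
  let c := fun T : TopCat.{u} => (constantSheaf (Opens.grothendieckTopology T) AddCommGrpCat.{u}).obj
    (AddCommGrpCat.of (ULift.{u} ℤ))
  exact exists_descentSS topPullSys f s hs (c S) F (fun q => AddCommGrpCat.of (CohTop.H F q))
    (fun q => ⟨Iso.refl _⟩)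
    (fun p q => AddCommGrpCat.of (CohTop.H ((CohTop.pull (WidePullback.base (fun _ : Fin (p + 1) => f) :
      widePullback S (fun _ : Fin (p + 1) => X) (fun _ => f) ⟶ S)).obj F) q))
    (fun p q => ⟨(extIso ((topPullConst (WidePullback.base (fun _ : Fin (p + 1) => f) :
      widePullback S (fun _ : Fin (p + 1) => X) (fun _ => f) ⟶ S)).app _) (Iso.refl _) q).toAddCommGrpIso⟩)
    O hO

end Groth.Agent.DescSec
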