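import Groth.Agent.DescSec.ProdStalk
import Groth.Agent.DescSec.Top
import Groth.Agent.SSExist.ExtDerived
import Groth.Agent.SSExist.Leray
import Mathlib.CategoryTheory.Preadditive.Yoneda.Limits
import Mathlib.Algebra.Category.Grp.AB
import Mathlib.CategoryTheory.Abelian.Injective.Resolution

/-!
# Cohomology of locally finite products of sheaves on closed subspaces
-/

set_option autoImplicit false
set_option linter.style.haveILetI false
set_option backward.isDefEq.respectTransparency false

universe u

open CategoryTheory CategoryTheory.Limits Opposite TopologicalSpace CategoryTheory.Abelian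

namespace Groth.Agent.DescSec

variable {X : TopCat.{u}}

/-- The constant sheaf with value `ℤ`. -/
noncomputable abbrev zSheaf (Y : TopCat.{u}) : CohTop.Ab Y :=
  (constantSheaf (Opens.grothendieckTopology Y) AddCommGrpCat.{u}).obj (AddCommGrpCat.of (ULift.{u} ℤ))

/-- Global sections as homomorphisms from the constant sheaf. -/
noncomputable abbrev gSec (Y : TopCat.{u}) : CohTop.Ab Y ⥤ AddCommGrpCat.{u} :=
  preadditiveCoyoneda.obj (op (zSheaf Y))

/-- Global sections of a direct image. -/
noncomputable def pushGSecIso {Y : TopCat.{u}} (f : Y ⟶ X) : CohTop.push f ⋙ gSec X ≅ gSec Y :=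
  NatIso.ofComponents
    (fun M => AddEquiv.toAddCommGrpIso
      { toEquiv := ((topAdj f).homEquiv (zSheaf X) M).symm.trans ((topPullConst f).app _).homFromEquiv
        map_add' := fun a b => by
          change ((topPullConst f).app _).inv ≫ ((topAdj f).homEquiv _ M).symm (a + b) =
            ((topPullConst f).app _).inv ≫ ((topAdj f).homEquiv _ M).symm a +
              ((topPullConst f).app _).inv ≫ ((topAdj f).homEquiv _ M).symm b
          haveI : (CohTop.pull f).Additive := (topAdj f).left_adjoint_additive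
          rw [Adjunction.homEquiv_counit, Adjunction.homEquiv_counit, Adjunction.homEquiv_counit]
          erw [Functor.map_add]
          rw [Preadditive.add_comp, Preadditive.comp_add] })
    (fun {M N} φ => by
      ext a
      change ((topPullConst f).app _).inv ≫ ((topAdj f).homEquiv _ N).symm (a ≫ (CohTop.push f).map φ) =
        (((topPullConst f).app _).inv ≫ ((topAdj f).homEquiv _ M).symm a) ≫ φ
      rw [Adjunction.homEquiv_naturality_right_symm, Category.assoc])

variable {T : Type u} {Z : T → TopCat.{u}} (f : ∀ σ, Z σ ⟶ X)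

/-- The family of direct images. -/
noncomputable abbrev pushFam (M : ∀ σ, CohTop.Ab (Z σ)) (σ : T) : CohTop.Ab X := (CohTop.push (f σ)).obj (M σ)

lemma supportedOn_pushFam (M : ∀ σ, CohTop.Ab (Z σ)) :
    SupportedOn (fun σ => Set.range (f σ)) (pushFam f M) := fun σ W hW => by
  have he : (Opens.map (f σ)).obj W = ⊥ := bot_unique fun z hz => (hW _ hz ⟨z, rfl⟩).elim
  refine AddCommGrpCat.subsingleton_of_isZero ?_
  change IsZero ((M σ).obj.obj (op ((Opens.map (f σ)).obj W)))
  rw [he]
  exact (TopCat.Sheaf.isTerminalOfEmpty _).isZero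

variable {f}

/-- The product of the direct images of complexes. -/
noncomputable def pushProdCx (K : ∀ σ, CochainComplex (CohTop.Ab (Z σ)) ℕ) :
    CochainComplex (CohTop.Ab X) ℕ :=
  CochainComplex.of (fun n => ∏ᶜ pushFam f (fun σ => (K σ).X n))
    (fun n => Limits.Pi.map fun σ => (CohTop.push (f σ)).map ((K σ).d n (n + 1)))
    (fun n => Limits.Pi.hom_ext _ _ fun σ => by
      rw [Category.assoc, Limits.Pi.map_π, Limits.Pi.map_π_assoc, ← Functor.map_comp, HomologicalComplex.d_comp_d,
        Functor.map_zero, comp_zero, zero_comp])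

/-- Cohomology of a locally finite product of sheaves on closed subspaces. -/
theorem nonempty_rightDerived_pi_push (hclosed : ∀ σ, Topology.IsClosedEmbedding (f σ))
    (hfin : ∀ x, Finite {σ // x ∈ Set.range (f σ)})
    (hsmall : ∀ x, ∃ V : Opens X, x ∈ V ∧ ∀ σ, x ∉ Set.range (f σ) → ∀ y ∈ V, y ∉ Set.range (f σ))
    (M : ∀ σ, CohTop.Ab (Z σ)) (q : ℕ) :
    Nonempty (((gSec X).rightDerived q).obj (∏ᶜ pushFam f M) ≅
      ∏ᶜ fun σ => AddCommGrpCat.of (CohTop.H (M σ) q)) := by
  let R := fun σ => injectiveResolution (M σ)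
  let J := pushProdCx (f := f) fun σ => (R σ).cocomplex
  haveI : ∀ n, Injective (J.X n) := fun n => by
    haveI : ∀ σ, Injective (pushFam f (fun σ => (R σ).cocomplex.X n) σ) := fun σ =>
      haveI := SSExist.preservesInjectiveObjects_pushTop (f σ)
      (CohTop.push (f σ)).injective_obj_of_injective ((R σ).injective n)
    exact (inferInstanceAs (Injective (∏ᶜ pushFam f (fun σ => (R σ).cocomplex.X n))))
  have hJd : ∀ n, J.d n (n + 1) =
      Limits.Pi.map fun σ => (CohTop.push (f σ)).map ((R σ).cocomplex.d n (n + 1)) := fun n =>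
    CochainComplex.of_d (fun n => ∏ᶜ pushFam f (fun σ => (R σ).cocomplex.X n))
      (fun n => Limits.Pi.map fun σ => (CohTop.push (f σ)).map ((R σ).cocomplex.d n (n + 1))) n
  have hexact : ∀ n, J.ExactAt (n + 1) := fun n => by
    rw [HomologicalComplex.exactAt_iff' J n (n + 1) (n + 1 + 1) (by simp) (by simp)]
    have h := exact_pi_map (fun σ => Set.range (f σ)) hfin hsmall
      (fun σ => (CohTop.push (f σ)).map ((R σ).cocomplex.d n (n + 1)))
      (fun σ => (CohTop.push (f σ)).map ((R σ).cocomplex.d (n + 1) (n + 1 + 1)))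
      (by rw [← hJd n, ← hJd (n + 1)]; exact J.d_comp_d _ _ _)
      (fun σ => by rw [← Functor.map_comp, HomologicalComplex.d_comp_d, Functor.map_zero])
      (supportedOn_pushFam f _) fun σ => exact_push_map_gen _ (hclosed σ) ((R σ).exact_succ n)
    refine (ShortComplex.exact_iff_of_iso ?_).1 h
    exact ShortComplex.isoMk (Iso.refl _) (Iso.refl _) (Iso.refl _)
      ((Category.id_comp _).trans ((hJd n).trans (Category.comp_id _).symm))
      ((Category.id_comp _).trans ((hJd (n + 1)).trans (Category.comp_id _).symm))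
  let i : (∏ᶜ pushFam f M) ⟶ J.X 0 := Limits.Pi.map fun σ => (CohTop.push (f σ)).map ((R σ).ι.f 0)
  have hiw : ∀ σ, (CohTop.push (f σ)).map ((R σ).ι.f 0) ≫
      (CohTop.push (f σ)).map ((R σ).cocomplex.d 0 1) = 0 := fun σ => by
    rw [← Functor.map_comp, InjectiveResolution.ι_f_zero_comp_complex_d, Functor.map_zero]
  have hi : i ≫ J.d 0 1 = 0 := by
    rw [hJd 0]
    refine Limits.Pi.hom_ext _ _ fun σ => ?_
    rw [Category.assoc, Limits.Pi.map_π, Limits.Pi.map_π_assoc, hiw σ, comp_zero, zero_comp]
  let ι : (CochainComplex.single₀ _).obj (∏ᶜ pushFam f M) ⟶ J :=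
    (CochainComplex.fromSingle₀Equiv J _).symm ⟨i, hi⟩
  haveI : QuasiIso ι := by
    refine ⟨fun k => ?_⟩
    cases k with
    | zero =>
      rw [CochainComplex.quasiIsoAt₀_iff, ShortComplex.quasiIso_iff_of_zeros]
      rotate_left
      · simp
      · simp
      · simp
      have hι : ι.f 0 = i := CochainComplex.fromSingle₀Equiv_symm_apply_f_zero i hi
      haveI : ∀ σ, Mono ((CohTop.push (f σ)).map ((R σ).ι.f 0)) := fun σ => by
        haveI : PreservesLimitsOfSize.{0, 0} (CohTop.push (f σ)) :=
          (topAdj (f σ)).rightAdjoint_preservesLimits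
        infer_instance
      haveI : Mono i := by simp only [i]; infer_instance
      have hex : (ShortComplex.mk i (J.d 0 1) hi).Exact := by
        refine (ShortComplex.exact_iff_of_iso (ShortComplex.isoMk (Iso.refl _) (Iso.refl _) (Iso.refl _)
          ((Category.id_comp _).trans (Category.comp_id _).symm)
          ((Category.id_comp _).trans ((hJd 0).trans (Category.comp_id _).symm)))).2
          (exact_pi_map (fun σ => Set.range (f σ)) hfin hsmall _ _ (by rw [← hJd 0]; exact hi) hiw
            (supportedOn_pushFam f _) fun σ => ?_)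
        exact exact_push_map_gen _ (hclosed σ)
          (S := ShortComplex.mk ((R σ).ι.f 0) ((R σ).cocomplex.d 0 1) (InjectiveResolution.ι_f_zero_comp_complex_d _))
          (InjectiveResolution.exact₀ (R σ))
      refine ⟨(ShortComplex.exact_iff_of_iso (ShortComplex.isoMk (Iso.refl _) (Iso.refl _) (Iso.refl _)
          ((Category.id_comp _).trans (hι.symm.trans (Category.comp_id _).symm))
          ((Category.id_comp _).trans (Category.comp_id _).symm))).1 hex, ?_⟩
      change Mono (ι.f 0)
      rw [hι]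
      exact ‹Mono i›
    | succ k =>
      rw [quasiIsoAt_iff_exactAt' ι (k + 1) (hexact k)]
      exact CochainComplex.exactAt_succ_single_obj _ _
  let R' : InjectiveResolution (∏ᶜ pushFam f M) := { cocomplex := J, ι := ι }
  let L := fun σ => ((gSec (Z σ)).mapHomologicalComplex (ComplexShape.up ℕ)).obj (R σ).cocomplex
  let e : ∀ n, (gSec X).obj (∏ᶜ pushFam f (fun σ => (R σ).cocomplex.X n)) ≅ ∏ᶜ fun σ => (L σ).X n := fun n =>
    PreservesProduct.iso (gSec X) (pushFam f (fun σ => (R σ).cocomplex.X n)) ≪≫
      Limits.Pi.mapIso fun σ => (pushGSecIso (f σ)).app ((R σ).cocomplex.X n)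
  have heπ : ∀ n σ, (e n).hom ≫ Pi.π (fun σ => (L σ).X n) σ =
      (gSec X).map (Pi.π (pushFam f (fun σ => (R σ).cocomplex.X n)) σ) ≫
        (pushGSecIso (f σ)).hom.app ((R σ).cocomplex.X n) := fun n σ => by
    change (piComparison (gSec X) (pushFam f (fun σ => (R σ).cocomplex.X n)) ≫
      Limits.Pi.map (fun σ => ((pushGSecIso (f σ)).app ((R σ).cocomplex.X n)).hom)) ≫ _ = _
    rw [Category.assoc]
    erw [Limits.Pi.map_π]
    rw [← Category.assoc]
    exact congrArg (· ≫ _) (piComparison_comp_π _ _ σ)
  have hd : ∀ i j, i + 1 = j → (e i).hom ≫ Limits.Pi.map (fun σ => (L σ).d i j) =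
      (gSec X).map (J.d i j) ≫ (e j).hom := by
    rintro i j rfl
    refine Limits.Pi.hom_ext _ _ fun σ => ?_
    rw [Category.assoc, Limits.Pi.map_π, ← Category.assoc, heπ, Category.assoc, Category.assoc, heπ,
      ← Functor.map_comp_assoc, hJd i, Limits.Pi.map_π, Functor.map_comp_assoc]
    exact congrArg (_ ≫ ·) ((pushGSecIso (f σ)).hom.naturality ((R σ).cocomplex.d i (i + 1))).symm
  have hq : Nonempty ((((gSec X).mapHomologicalComplex (ComplexShape.up ℕ)).obj J).homology q ≅
      ∏ᶜ fun σ => (L σ).homology q) := by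
    refine nonempty_homology_pi_iso (fun σ => (L σ).sc q) _ (e _) (e _) (e _) ?_ (hd q _ (by simp))
    cases q with
    | zero =>
      have h1 : ∀ σ, (L σ).d ((ComplexShape.up ℕ).prev 0) 0 = 0 := fun σ => (L σ).shape _ _ (by simp)
      have h2 : (((gSec X).mapHomologicalComplex (ComplexShape.up ℕ)).obj J).d ((ComplexShape.up ℕ).prev 0) 0 = 0 :=
        HomologicalComplex.shape _ _ _ (by simp)
      change _ ≫ Limits.Pi.map (fun σ => (L σ).d ((ComplexShape.up ℕ).prev 0) 0) =
        (((gSec X).mapHomologicalComplex (ComplexShape.up ℕ)).obj J).d ((ComplexShape.up ℕ).prev 0) 0 ≫ _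
      rw [h2, zero_comp, show Limits.Pi.map (fun σ => (L σ).d ((ComplexShape.up ℕ).prev 0) 0) = 0 from
        Limits.Pi.hom_ext _ _ fun σ => by rw [Limits.Pi.map_π, h1, comp_zero, zero_comp], comp_zero]
    | succ k => exact hd _ _ (by simp)
  obtain ⟨e'⟩ := hq
  exact ⟨R'.isoRightDerivedObj (gSec X) q ≪≫ e' ≪≫ Limits.Pi.mapIso fun σ =>
    ((R σ).isoRightDerivedObj (gSec (Z σ)) q).symm ≪≫
      (SSExist.nonempty_ext_iso_rightDerived (gSec (Z σ)) (zSheaf _) (Iso.refl _) (M σ) q).some.symm⟩

end Groth.Agent.DescSec
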