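import Groth.Agent.DescSec.ClosedStalk
import Mathlib.Algebra.Category.Grp.AB
import Mathlib.Algebra.Homology.ShortComplex.PreservesHomology
import Mathlib.Algebra.Homology.ShortComplex.Ab

/-!
# Stalks of locally finite products, exactness of direct images from closed subspaces
-/

set_option autoImplicit false
set_option linter.style.haveILetI false
set_option backward.isDefEq.respectTransparency false

universe u

open CategoryTheory CategoryTheory.Limits Opposite TopologicalSpace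
open scoped ZeroObject

namespace Groth.Agent.DescSec

open ClosedPush

variable {X : TopCat.{u}}

/-- The stalk of a direct image at a point of a closed subspace. -/
noncomputable def pushStAIso (A : Set X) (x : X) (hx : x ∈ A) :
    CohTop.push (incl A) ⋙ stA x ≅ stA (X := TopCat.of A) ⟨x, hx⟩ :=
  haveI := ClosedPush.isIso_counit (f := incl A) Topology.IsInducing.subtypeVal
  Functor.isoWhiskerLeft (CohTop.push (incl A)) (pullStkIso (incl A) (⟨x, hx⟩ : TopCat.of A)).symm ≪≫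
    (Functor.associator _ _ _).symm ≪≫
    Functor.isoWhiskerRight (asIso (TopCat.Sheaf.pullbackPushforwardAdjunction AddCommGrpCat.{u} (incl A)).counit) _ ≪≫
    Functor.leftUnitor _

lemma subsingleton_push (A : Set X) (M : CohTop.Ab (TopCat.of A)) (W : Opens X) (hW : ∀ x ∈ W, x ∉ A) :
    Subsingleton (((CohTop.push (incl A)).obj M).obj.obj (op W)) := by
  have he : (Opens.map (incl A)).obj W = ⊥ := bot_unique fun z hz => (hW _ hz z.2).elim
  refine AddCommGrpCat.subsingleton_of_isZero ?_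
  change IsZero (M.obj.obj (op ((Opens.map (incl A)).obj W)))
  rw [he]
  exact (TopCat.Sheaf.isTerminalOfEmpty _).isZero

instance push_pzm {Y Z : TopCat.{u}} (f : Y ⟶ Z) : (CohTop.push f).PreservesZeroMorphisms := ⟨fun _ _ => rfl⟩

lemma exact_push_map_gen {Z : TopCat.{u}} (f : Z ⟶ X) (hf : Topology.IsClosedEmbedding f)
    {S : ShortComplex (CohTop.Ab Z)} (hS : S.Exact) : (S.map (CohTop.push f)).Exact := by
  haveI := ClosedPush.isIso_counit (f := f) hf.isInducing
  refine exact_of_stk fun x c hc => ?_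
  by_cases hx : x ∈ Set.range f
  · obtain ⟨z, rfl⟩ := hx
    let e : CohTop.push f ⋙ stA (f z) ≅ stA z :=
      Functor.isoWhiskerLeft (CohTop.push f) (pullStkIso f z).symm ≪≫ (Functor.associator _ _ _).symm ≪≫
        Functor.isoWhiskerRight (asIso (TopCat.Sheaf.pullbackPushforwardAdjunction AddCommGrpCat.{u} f).counit) _ ≪≫
        Functor.leftUnitor _
    have h := (ShortComplex.exact_iff_of_iso (S.mapNatIso e)).2 (hS.map (stA z))
    exact (ShortComplex.ab_exact_iff _).1 h c hc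
  · haveI : Subsingleton ((stA x).obj ((CohTop.push f).obj S.X₂)) :=
      AddCommGrpCat.subsingleton_of_isZero (isZero_stalk_of_isZero_sections
        (U := ⟨(Set.range f)ᶜ, hf.isClosed_range.isOpen_compl⟩) (F := (CohTop.push f).obj S.X₂)
        (fun W hW => by
          have he : (Opens.map f).obj W = ⊥ := bot_unique fun z hz => (hW hz ⟨z, rfl⟩).elim
          change IsZero (S.X₂.obj.obj (op ((Opens.map f).obj W)))
          rw [he]
          exact (TopCat.Sheaf.isTerminalOfEmpty _).isZero) hx)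
    exact ⟨0, Subsingleton.elim (α := (stA x).obj ((CohTop.push f).obj S.X₂)) _ _⟩

section Family

variable {T : Type u} (A : T → Set X) (hfin : ∀ x, Finite {σ // x ∈ A σ})
  (hsmall : ∀ x, ∃ V : Opens X, x ∈ V ∧ ∀ σ, x ∉ A σ → ∀ y ∈ V, y ∉ A σ)

/-- Supported on the given subsets. -/
def SupportedOn (G : T → CohTop.Ab X) : Prop :=
  ∀ σ (W : Opens X), (∀ y ∈ W, y ∉ A σ) → Subsingleton ((G σ).obj.obj (op W))

variable {G : T → CohTop.Ab X} (hG : SupportedOn A G)

lemma prod_sect_ext {V : Opens X} {a b : (∏ᶜ G).obj.obj (op V)}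
    (h : ∀ σ, (Pi.π G σ).hom.app (op V) a = (Pi.π G σ).hom.app (op V) b) : a = b := by
  let S := sheafToPresheaf (Opens.grothendieckTopology X) AddCommGrpCat.{u} ⋙ (evaluation _ _).obj (op V)
  exact Concrete.isLimit_ext _ (isLimitOfPreserves S (limit.isLimit (Discrete.functor G))) a b fun ⟨σ⟩ => h σ

lemma prod_sect_exists {V : Opens X} (v : ∀ σ, (G σ).obj.obj (op V)) :
    ∃ b : (∏ᶜ G).obj.obj (op V), ∀ σ, (Pi.π G σ).hom.app (op V) b = v σ := by
  let S := sheafToPresheaf (Opens.grothendieckTopology X) AddCommGrpCat.{u} ⋙ (evaluation _ _).obj (op V)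
  let e := PreservesProduct.iso S G
  let w := (Concrete.productEquiv (fun σ => S.obj (G σ))).symm v
  refine ⟨e.inv w, fun σ => ?_⟩
  have h : e.inv ≫ S.map (Pi.π G σ) = Pi.π _ σ := by
    rw [Iso.inv_comp_eq]
    exact (piComparison_comp_π S _ σ).symm
  exact (ConcreteCategory.congr_hom h w).trans (Concrete.productEquiv_symm_apply_π _ _ σ)

include hfin hsmall hG in
lemma prod_stk_eq_zero {x : X} (c : (stA x).obj (∏ᶜ G))
    (h : ∀ σ, x ∈ A σ → (stA x).map (Pi.π G σ) c = 0) : c = 0 := by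
  obtain ⟨V, hV, s, rfl⟩ := TopCat.Presheaf.exists_germ_eq (∏ᶜ G).obj c
  obtain ⟨V₀, hx₀, hV₀⟩ := hsmall x
  have h1 : ∀ t : {σ // x ∈ A σ}, ∃ (W : Opens X) (i : W ⟶ V),
      x ∈ W ∧ (G t.1).obj.map i.op ((Pi.π G t.1).hom.app (op V) s) = 0 := by
    intro t
    have hg : TopCat.Presheaf.germ (G t.1).obj V x hV ((Pi.π G t.1).hom.app (op V) s) = 0 :=
      (TopCat.Presheaf.stalkFunctor_map_germ_apply V x hV _ s).symm.trans (h t.1 t.2)
    obtain ⟨W, hW, i, i', e⟩ := TopCat.Presheaf.germ_eq (G t.1).obj x hV hV ((Pi.π G t.1).hom.app (op V) s) 0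
      (hg.trans (map_zero _).symm)
    exact ⟨W, i, hW, e.trans (map_zero _)⟩
  choose W i hW he using h1
  haveI := hfin x
  let V' : Opens X := V₀ ⊓ V ⊓ ⟨⋂ t, (W t : Set X), isOpen_iInter_of_finite fun t => (W t).2⟩
  have hx' : x ∈ V' := ⟨⟨hx₀, hV⟩, Set.mem_iInter.2 hW⟩
  let j : V' ⟶ V := homOfLE (inf_le_left.trans inf_le_right)
  rw [← TopCat.Presheaf.germ_res_apply (∏ᶜ G).obj j x hx']
  suffices h2 : (∏ᶜ G).obj.map j.op s = 0 by rw [h2, map_zero]
  refine prod_sect_ext fun σ => ?_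
  rw [map_zero]
  refine (ConcreteCategory.congr_hom ((Pi.π G σ).hom.naturality j.op) s).trans ?_
  by_cases hσ : x ∈ A σ
  · let k : V' ⟶ W ⟨σ, hσ⟩ := homOfLE fun y hy => Set.mem_iInter.1 hy.2 ⟨σ, hσ⟩
    have hjk : j.op = (i ⟨σ, hσ⟩).op ≫ k.op := Subsingleton.elim _ _
    rw [ConcreteCategory.comp_apply, hjk, Functor.map_comp, ConcreteCategory.comp_apply]
    exact (congrArg ((G σ).obj.map k.op) (he ⟨σ, hσ⟩)).trans (map_zero _)
  · haveI := hG σ V' fun y hy => hV₀ σ hσ y hy.1.1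
    exact Subsingleton.elim _ _

include hfin hsmall in
lemma prod_stk_exists (x : X) (v : ∀ σ, x ∈ A σ → (stA x).obj (G σ)) :
    ∃ e : (stA x).obj (∏ᶜ G), ∀ σ (hσ : x ∈ A σ), (stA x).map (Pi.π G σ) e = v σ hσ := by
  classical
  obtain ⟨V₀, hx₀, hV₀⟩ := hsmall x
  choose W hW g hg using fun t : {σ // x ∈ A σ} => TopCat.Presheaf.exists_germ_eq (G t.1).obj (v t.1 t.2)
  haveI := hfin x
  let V' : Opens X := V₀ ⊓ ⟨⋂ t, (W t : Set X), isOpen_iInter_of_finite fun t => (W t).2⟩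
  have hx' : x ∈ V' := ⟨hx₀, Set.mem_iInter.2 hW⟩
  let j : ∀ t, V' ⟶ W t := fun t => homOfLE fun y hy => Set.mem_iInter.1 hy.2 t
  obtain ⟨b, hb⟩ := prod_sect_exists (G := G) (V := V') fun σ =>
    if hσ : x ∈ A σ then (G σ).obj.map (j ⟨σ, hσ⟩).op (g ⟨σ, hσ⟩) else 0
  refine ⟨TopCat.Presheaf.germ (∏ᶜ G).obj V' x hx' b, fun σ hσ => ?_⟩
  refine (TopCat.Presheaf.stalkFunctor_map_germ_apply V' x hx' _ b).trans ?_
  refine (congrArg (TopCat.Presheaf.germ (G σ).obj V' x hx') ((hb σ).trans (dif_pos hσ))).trans ?_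
  exact (TopCat.Presheaf.germ_res_apply _ _ _ _ _).trans (hg ⟨σ, hσ⟩)

include hfin hsmall in
theorem exact_pi_map {G₁ G₂ G₃ : T → CohTop.Ab X} (f : ∀ σ, G₁ σ ⟶ G₂ σ) (g : ∀ σ, G₂ σ ⟶ G₃ σ)
    (w : Limits.Pi.map f ≫ Limits.Pi.map g = 0) (w' : ∀ σ, f σ ≫ g σ = 0) (h2 : SupportedOn A G₂)
    (hex : ∀ σ, (ShortComplex.mk (f σ) (g σ) (w' σ)).Exact) : (ShortComplex.mk _ _ w).Exact := by
  refine exact_of_stk fun x c hc => ?_
  have hc' : ∀ σ, (stA x).map (g σ) ((stA x).map (Pi.π G₂ σ) c) = 0 := fun σ => by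
    rw [← ConcreteCategory.comp_apply, ← Functor.map_comp, ← Limits.Pi.map_π g σ, Functor.map_comp,
      ConcreteCategory.comp_apply]
    exact (congrArg _ hc).trans (map_zero _)
  choose e he using fun σ => (ShortComplex.ab_exact_iff _).1 ((hex σ).map (stA x)) _ (hc' σ)
  obtain ⟨d, hd⟩ := prod_stk_exists A hfin hsmall (G := G₁) x fun σ _ => e σ
  refine ⟨d, ?_⟩
  rw [← sub_eq_zero]
  refine prod_stk_eq_zero A hfin hsmall h2 _ fun σ hσ => ?_
  rw [map_sub, sub_eq_zero, ← ConcreteCategory.comp_apply, ← Functor.map_comp, Limits.Pi.map_π, Functor.map_comp,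
    ConcreteCategory.comp_apply, hd σ hσ]
  exact he σ

end Family

section ProductHomology

variable {T : Type u}

/-- Homology of a product of short complexes of abelian groups. -/
theorem nonempty_homology_pi_iso (C : T → ShortComplex AddCommGrpCat.{u}) (S : ShortComplex AddCommGrpCat.{u})
    (e₁ : S.X₁ ≅ ∏ᶜ fun σ => (C σ).X₁) (e₂ : S.X₂ ≅ ∏ᶜ fun σ => (C σ).X₂) (e₃ : S.X₃ ≅ ∏ᶜ fun σ => (C σ).X₃)
    (h₁₂ : e₁.hom ≫ Limits.Pi.map (fun σ => (C σ).f) = S.f ≫ e₂.hom)
    (h₂₃ : e₂.hom ≫ Limits.Pi.map (fun σ => (C σ).g) = S.g ≫ e₃.hom) :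
    Nonempty (S.homology ≅ ∏ᶜ fun σ => (C σ).homology) := by
  let D : ShortComplex (Discrete T ⥤ AddCommGrpCat.{u}) :=
    ShortComplex.mk (X₁ := Discrete.functor fun σ => (C σ).X₁) (X₂ := Discrete.functor fun σ => (C σ).X₂)
      (X₃ := Discrete.functor fun σ => (C σ).X₃)
      (Discrete.natTrans fun t => (C t.as).f) (Discrete.natTrans fun t => (C t.as).g)
      (NatTrans.ext (funext fun t => (C t.as).zero))
  let e : S ≅ D.map lim := ShortComplex.isoMk e₁ e₂ e₃ h₁₂ h₂₃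
  exact ⟨ShortComplex.homologyMapIso e ≪≫ D.mapHomologyIso lim ≪≫
    lim.mapIso (Discrete.natIso fun t => (D.mapHomologyIso ((evaluation _ _).obj t)).symm)⟩

end ProductHomology

end Groth.Agent.DescSec
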